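import Groth.Agent.EtDual.K617.ProdVal
import Mathlib.RingTheory.Valuation.LocalSubring
import Mathlib.FieldTheory.IsAlgClosed.AlgebraicClosure

/-!
# `w`-adic coverings: the lifting property for `w`-complete absolutely integrally closed valuation rings (seat 617)

* `IsAicc V w`: `V` is a `w`-adically complete absolutely integrally closed valuation domain, `w` is not a unit;
* `TauCov w φ` (`φ : R →+* R'`, `w : R`): maps of `R` to `V` with `IsAicc V w` lift to maps of `R'` to some `V'` with
  `IsAicc V' w`, `V → V'` injective and local; `TauCov.{id, comp, of_comp, of_weakPushout, tensor}`, `VCov.tauCov`;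
* `exists_hull`, `exists_aicc_hull`: a.i.c. hull of a valuation ring, complete version;
* for `T = ∏ V i` with `V i` a.i.c. valuation rings and `w : T`: `Sep w = ∏ V i / ⋂ w ^ n` over the `i` with `w i` not
  a unit, `toSep w : T →+* Sep w` is surjective (`toSep_surjective`) with kernel in all `w ^ n T` (`dvd_of_toSep`), the
  `w`-power torsion of `Sep w` is killed by `w` (`toSep_torsion`);
* `exists_vcov_sep`, `vcov_sep`: a `w`-covering `R → R'` becomes a covering over `Sep w`.
-/

set_option autoImplicit false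
universe u v

open CategoryTheory CategoryTheory.Limits AlgebraicGeometry
open scoped TensorProduct
open K617.Aic

namespace K617.VC

/-- `V` is a `w`-adically complete absolutely integrally closed valuation domain and `w` is not a unit. -/
structure IsAicc (V : Type u) [CommRing V] (w : V) : Prop where
  isDomain : IsDomain V
  total : ∀ a b : V, a ∣ b ∨ b ∣ a
  aic : Curves.IsAIC V
  nonunit : ¬ IsUnit w
  complete : IsAdicComplete (Ideal.span {w}) V

theorem IsAicc.valuationRing {V : Type u} [CommRing V] {w : V} (h : IsAicc V w) :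
    ∃ _ : IsDomain V, ValuationRing V :=
  ⟨h.isDomain, by
    have := h.isDomain
    rw [ValuationRing.iff_dvd_total]
    exact ⟨h.total⟩⟩

/-- The lifting property for `w`-complete a.i.c. valuation rings. -/
def TauCov {R R' : Type u} [CommRing R] [CommRing R'] (w : R) (φ : R →+* R') : Prop :=
  ∀ (V : Type u) [CommRing V] (ψ : R →+* V), IsAicc V (ψ w) →
    ∃ (V' : Type u) (_ : CommRing V') (i : V →+* V') (ψ' : R' →+* V'), IsAicc V' (i (ψ w)) ∧
      Function.Injective i ∧ IsLocalHom i ∧ ψ'.comp φ = i.comp ψ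

section Hull

/-- Every valuation ring has an absolutely integrally closed hull. -/
theorem exists_hull (V : Type u) [CommRing V] [IsDomain V] [ValuationRing V] :
    ∃ (V' : Type u) (_ : CommRing V') (_ : IsDomain V') (_ : ValuationRing V') (i : V →+* V'),
      Curves.IsAIC V' ∧ Function.Injective i ∧ IsLocalHom i := by
  let K := FractionRing V
  let L := AlgebraicClosure K
  let f : V →+* L := (algebraMap K L).comp (algebraMap V K)
  have hf : Function.Injective f := (algebraMap K L).injective.comp (IsFractionRing.injective V K)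
  obtain ⟨A, hA, hAl⟩ := IsLocalRing.exists_factor_valuationRing f
  refine ⟨A, inferInstance, inferInstance, inferInstance, f.codRestrict _ hA, ?_, ?_, hAl⟩
  · exact isAIC_of_isAlgClosed L
  · intro x y hxy
    exact hf (congrArg Subtype.val hxy)

/-- The complete version: an extension `V → V₁` of valuation rings with `V` a complete a.i.c. valuation ring can be
enlarged to a complete a.i.c. one. -/
theorem exists_aicc_hull {V : Type u} [CommRing V] {w : V} (h : IsAicc V w) {V₁ : Type u} [CommRing V₁]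
    [IsDomain V₁] [ValuationRing V₁] (i : V →+* V₁) (hi : Function.Injective i) (hl : IsLocalHom i) :
    ∃ (V' : Type u) (_ : CommRing V') (j : V₁ →+* V'), IsAicc V' (j (i w)) ∧
      Function.Injective (j.comp i) ∧ IsLocalHom (j.comp i) := by
  obtain ⟨_, _⟩ := h.valuationRing
  obtain ⟨V₂, _, _, _, k, hk, hkinj, hkl⟩ := exists_hull V₁
  have hw : ¬ IsUnit (k (i w)) := fun hu => h.nonunit (hl.map_nonunit _ (hkl.map_nonunit _ hu))
  obtain ⟨C, _, _, _, φ, hφ, hC, hφl, -⟩ := exists_isCompl hk (k (i w)) hw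
  have hl2 : IsLocalHom (k.comp i) := inferInstance
  have hsep : ∀ x : V, (∀ n, w ^ n ∣ x) → x = 0 := by
    intro x hx
    have := h.complete
    exact IsHausdorff.haus (I := Ideal.span {w}) inferInstance x fun n => by
      rw [smodEq_span_pow_iff, sub_zero]
      exact hx n
  have hinj := comp_injective (k.comp i) (hkinj.comp hi) hsep (C := C) (φ := φ) hφ
  refine ⟨C, inferInstance, φ.comp k, ⟨inferInstance, fun a b => ?_, hC, ?_, hφ.complete⟩, hinj, ?_⟩
  · exact ValuationRing.dvd_total a b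
  · intro hu
    exact hw (hφl.map_nonunit _ hu)
  · exact (inferInstance : IsLocalHom (φ.comp (k.comp i)))

end Hull

section Calculus

variable {R R' R'' S S' : Type u} [CommRing R] [CommRing R'] [CommRing R''] [CommRing S] [CommRing S']

theorem TauCov.id (w : R) : TauCov w (RingHom.id R) := fun V _ ψ h =>
  ⟨V, inferInstance, RingHom.id V, ψ, h, fun _ _ h => h, ⟨fun _ h => h⟩, rfl⟩

theorem TauCov.comp {w : R} {φ : R →+* R'} {χ : R' →+* R''} (hφ : TauCov w φ) (hχ : TauCov (φ w) χ) :
    TauCov w (χ.comp φ) := by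
  intro V _ ψ hV
  obtain ⟨V', _, i, ψ', hV', hi, hl, h⟩ := hφ V ψ hV
  have e : ψ' (φ w) = i (ψ w) := congrArg (fun f : R →+* V' => f w) h
  obtain ⟨V'', _, i', ψ'', hV'', hi', hl', h'⟩ := hχ V' ψ' (e ▸ hV')
  refine ⟨V'', inferInstance, i'.comp i, ψ'', ?_, hi'.comp hi, inferInstance, ?_⟩
  · rw [e] at hV''
    exact hV''
  · rw [← RingHom.comp_assoc, h', RingHom.comp_assoc, h, RingHom.comp_assoc]

theorem TauCov.of_comp {w : R} {φ : R →+* R'} {χ : R' →+* R''} (h : TauCov w (χ.comp φ)) : TauCov w φ := by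
  intro V _ ψ hV
  obtain ⟨V', _, i, ψ', hV', hi, hl, h'⟩ := h V ψ hV
  exact ⟨V', inferInstance, i, ψ'.comp χ, hV', hi, hl, by rw [RingHom.comp_assoc, h']⟩

theorem TauCov.of_comp_eq {w : R} {φ : R →+* R'} {χ : R' →+* R''} {ρ : R →+* R''} (h : TauCov w ρ)
    (e : χ.comp φ = ρ) : TauCov w φ :=
  TauCov.of_comp (χ := χ) (e ▸ h)

/-- Base change: it suffices that `S'` is a weak pushout. -/
theorem TauCov.of_weakPushout {w : R} {φ : R →+* R'} (h : TauCov w φ) (s : R →+* S) (φ' : S →+* S')
    (hp : ∀ (V : Type u) [CommRing V] (a : S →+* V) (b : R' →+* V), b.comp φ = a.comp s →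
      ∃ c : S' →+* V, c.comp φ' = a) : TauCov (s w) φ' := by
  intro V _ ψ hV
  obtain ⟨V', _, i, ψ', hV', hi, hl, h'⟩ := h V (ψ.comp s) hV
  obtain ⟨c, hc⟩ := hp V' (i.comp ψ) ψ' (by rw [h', RingHom.comp_assoc])
  exact ⟨V', inferInstance, i, c, hV', hi, hl, hc⟩

theorem TauCov.tensor [Algebra R R'] [Algebra R S] {w : R} (h : TauCov w (algebraMap R R')) :
    TauCov (algebraMap R S w) (algebraMap S (TensorProduct R S R')) :=
  h.of_weakPushout (algebraMap R S) _ fun V _ a b hab => (weakPushout_tensor V a b hab).imp fun _ h => h.1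

theorem VCov.tauCov {φ : R →+* R'} (h : VCov φ) (w : R) : TauCov w φ := by
  intro V _ ψ hV
  obtain ⟨_, _⟩ := hV.valuationRing
  obtain ⟨V₁, _, _, _, i, ψ', hi, hl, h'⟩ := h V ψ
  obtain ⟨V', _, j, hV', hj, hjl⟩ := exists_aicc_hull hV i hi hl
  exact ⟨V', inferInstance, j.comp i, j.comp ψ', hV', hj, hjl, by
    rw [RingHom.comp_assoc, h', RingHom.comp_assoc]⟩

end Calculus

section Sep

variable {I : Type u} {V : I → Type u} [∀ i, CommRing (V i)]

/-- The indices with `w i` not a unit. -/
abbrev SepIdx (w : ∀ i, V i) : Type u := {i : I // ¬ IsUnit (w i)}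

/-- The product of the `w`-separated quotients, over the factors in which `w` is not a unit. -/
abbrev Sep (w : ∀ i, V i) : Type u := ∀ j : SepIdx w, V j.1 ⧸ sepIdeal (w j.1)

/-- The projection to the product of the `w`-separated quotients. -/
def toSep (w : ∀ i, V i) : (∀ i, V i) →+* Sep w :=
  RingHom.pi fun j => (Ideal.Quotient.mk (sepIdeal (w j.1))).comp (Pi.evalRingHom V j.1)

theorem toSep_apply (w x : ∀ i, V i) (j : SepIdx w) : toSep w x j = Ideal.Quotient.mk _ (x j.1) := rfl

theorem toSep_surjective (w : ∀ i, V i) : Function.Surjective (toSep w) := by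
  classical
  intro y
  choose x hx using fun j : SepIdx w => Ideal.Quotient.mk_surjective (y j)
  refine ⟨fun i => if h : ¬ IsUnit (w i) then x ⟨i, h⟩ else 0, funext fun j => ?_⟩
  rw [toSep_apply, dif_pos j.2, hx]

theorem toSep_eq_zero_iff (w x : ∀ i, V i) : toSep w x = 0 ↔ ∀ n, w ^ n ∣ x := by
  constructor
  · intro h n
    have h1 : ∀ i, w i ^ n ∣ x i := by
      intro i
      by_cases hi : IsUnit (w i)
      · exact (hi.pow n).dvd
      · have h2 : toSep w x ⟨i, hi⟩ = 0 := by rw [h]; rfl
        rw [toSep_apply, Ideal.Quotient.eq_zero_iff_mem] at h2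
        exact mem_sepIdeal.1 h2 n
    choose c hc using h1
    exact ⟨c, funext hc⟩
  · intro h
    funext j
    rw [toSep_apply, Pi.zero_apply, Ideal.Quotient.eq_zero_iff_mem, mem_sepIdeal]
    intro n
    obtain ⟨c, hc⟩ := h n
    exact ⟨c j.1, congrFun hc j.1⟩

theorem dvd_of_toSep (w x : ∀ i, V i) (n : ℕ) (h : toSep w w ^ n ∣ toSep w x) : w ^ n ∣ x := by
  obtain ⟨c, hc⟩ := h
  obtain ⟨d, rfl⟩ := toSep_surjective w c
  have h1 : toSep w (x - w ^ n * d) = 0 := by rw [map_sub, hc, map_mul, map_pow, sub_self]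
  have h2 := (toSep_eq_zero_iff w _).1 h1 n
  have h3 : x = (x - w ^ n * d) + w ^ n * d := by ring
  rw [h3]
  exact dvd_add h2 (Dvd.intro _ rfl)

variable [∀ i, IsDomain (V i)] [∀ i, ValuationRing (V i)]

theorem isDomain_sep (w : ∀ i, V i) (j : SepIdx w) : IsDomain (V j.1 ⧸ sepIdeal (w j.1)) := by
  have := isPrime_sepIdeal j.2
  infer_instance

theorem valuationRing_sep (w : ∀ i, V i) (j : SepIdx w) [IsDomain (V j.1 ⧸ sepIdeal (w j.1))] :
    ValuationRing (V j.1 ⧸ sepIdeal (w j.1)) :=
  (Ideal.Quotient.mk_surjective (I := sepIdeal (w j.1))).valuationRing (Ideal.Quotient.mk _)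

/-- The `w`-power torsion of the product of the separated quotients is killed by `w`. -/
theorem toSep_torsion (w : ∀ i, V i) (y : Sep w) (n : ℕ) (h : toSep w w ^ n * y = 0) : toSep w w * y = 0 := by
  funext j
  have := isDomain_sep w j
  have h1 : (toSep w w j) ^ n * y j = 0 := congrFun h j
  change toSep w w j * y j = 0
  rcases mul_eq_zero.1 h1 with h2 | h2
  · rw [eq_zero_of_pow_eq_zero h2, zero_mul]
  · rw [h2, mul_zero]

omit [∀ i, ValuationRing (V i)] in
theorem not_isUnit_sep (w : ∀ i, V i) (j : SepIdx w) : ¬ IsUnit (toSep w w j) := by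
  intro hu
  rw [toSep_apply] at hu
  obtain ⟨c, hc⟩ := hu.exists_right_inv
  obtain ⟨d, rfl⟩ := Ideal.Quotient.mk_surjective c
  rw [← map_mul, ← sub_eq_zero, ← map_one (Ideal.Quotient.mk _), ← map_sub, Ideal.Quotient.eq_zero_iff_mem] at hc
  obtain ⟨e, he⟩ := mem_sepIdeal.1 hc 1
  rw [pow_one] at he
  exact j.2 (isUnit_of_dvd_one ⟨d - e, by linear_combination -he⟩)

omit [∀ i, ValuationRing (V i)] in
theorem separated_sep (w : ∀ i, V i) (j : SepIdx w) (x : V j.1 ⧸ sepIdeal (w j.1))
    (hx : ∀ n, (toSep w w j) ^ n ∣ x) : x = 0 := by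
  obtain ⟨x, rfl⟩ := Ideal.Quotient.mk_surjective x
  rw [Ideal.Quotient.eq_zero_iff_mem, mem_sepIdeal]
  intro n
  obtain ⟨c, hc⟩ := hx n
  obtain ⟨d, rfl⟩ := Ideal.Quotient.mk_surjective c
  rw [toSep_apply, ← map_pow, ← map_mul, ← sub_eq_zero, ← map_sub, Ideal.Quotient.eq_zero_iff_mem] at hc
  have h1 := mem_sepIdeal.1 hc n
  have h2 : x = (x - w j.1 ^ n * d) + w j.1 ^ n * d := by ring
  rw [h2]
  exact dvd_add h1 (Dvd.intro _ rfl)

/-- **The input of descent along `w`-coverings.**  A `w`-covering `R → R'` is dominated, over the product of the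
`w`-separated quotients of a product of a.i.c. valuation rings, by a covering. -/
theorem exists_vcov_sep (haic : ∀ i, Curves.IsAIC (V i)) (w : ∀ i, V i) {R R' : Type u} [CommRing R] [CommRing R']
    {φ : R →+* R'} {w₀ : R} (hφ : TauCov w₀ φ) (t : R →+* ∀ i, V i) (hw : t w₀ = w) :
    ∃ (Q : Type u) (_ : CommRing Q) (q : Sep w →+* Q) (q' : R' →+* Q), VCov q ∧
      q'.comp φ = q.comp ((toSep w).comp t) := by
  have hdom := isDomain_sep w
  have hval := fun j => valuationRing_sep w j
  have key : ∀ j : SepIdx w, ∃ (V' : Type u) (_ : CommRing V') (_ : IsDomain V')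
      (i : (V j.1 ⧸ sepIdeal (w j.1)) →+* V') (ψ' : R' →+* V'), Function.Injective i ∧ IsLocalHom i ∧
      ψ'.comp φ = i.comp ((Pi.evalRingHom _ j).comp ((toSep w).comp t)) := by
    intro j
    have haicj : Curves.IsAIC (V j.1 ⧸ sepIdeal (w j.1)) :=
      isAIC_of_surjective (Ideal.Quotient.mk _) Ideal.Quotient.mk_surjective (haic j.1)
    obtain ⟨C, _, _, _, χ, hχ, hC, hχl, hχ0⟩ := exists_isCompl haicj (toSep w w j) (not_isUnit_sep w j)
    have hχinj : Function.Injective χ := by
      rw [injective_iff_map_eq_zero]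
      intro x hx
      exact separated_sep w j x ((hχ0 x).1 hx)
    let ψ : R →+* C := χ.comp ((Pi.evalRingHom _ j).comp ((toSep w).comp t))
    have hψw : ψ w₀ = χ (toSep w w j) := by
      change χ (toSep w (t w₀) j) = _
      rw [hw]
    have hAicc : IsAicc C (ψ w₀) := by
      rw [hψw]
      exact ⟨inferInstance, fun a b => ValuationRing.dvd_total a b, hC,
        fun hu => not_isUnit_sep w j (hχl.map_nonunit _ hu), hχ.complete⟩
    obtain ⟨V', _, i, ψ', hV', hi, hl, h'⟩ := hφ C ψ hAicc
    exact ⟨V', inferInstance, hV'.isDomain, i.comp χ, ψ', hi.comp hχinj, inferInstance, by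
      rw [h', RingHom.comp_assoc]⟩
  choose V' _ _ i ψ' hi hl h' using key
  refine ⟨∀ j, V' j, inferInstance, piMap i, RingHom.pi ψ', vcov_pi i hi hl, ?_⟩
  ext x j
  exact congrArg (fun f : R →+* V' j => f x) (h' j)

/-- The base change of a `w`-covering to the product of the `w`-separated quotients is a covering. -/
theorem vcov_sep (haic : ∀ i, Curves.IsAIC (V i)) (w : ∀ i, V i) {R R' : Type u} [CommRing R] [CommRing R']
    {φ : R →+* R'} {w₀ : R} (hφ : TauCov w₀ φ) (t : R →+* ∀ i, V i) (hw : t w₀ = w) {S' : Type u} [CommRing S']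
    (φ' : Sep w →+* S')
    (hp : ∀ (Q : Type u) [CommRing Q] (a : Sep w →+* Q) (b : R' →+* Q),
      b.comp φ = a.comp ((toSep w).comp t) → ∃ c : S' →+* Q, c.comp φ' = a) : VCov φ' := by
  obtain ⟨Q, _, q, q', hq, hqq⟩ := exists_vcov_sep haic w hφ t hw
  obtain ⟨c, hc⟩ := hp Q q q' hqq
  exact hq.of_comp_eq hc

end Sep

end K617.VC
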