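import Groth.Agent.EtDual.K617.UDQuasi
import Groth.Agent.EtDual.K617.TauCov
import Mathlib.CategoryTheory.Limits.Constructions.Over.Connected

/-!
# Universal descent along `w`-coverings (seat 617)

`C` a category with a contravariant functor `O` to commutative rings which behaves like the category of affine schemes
over a base (`AffLike`), `A` a bounded below complex of presheaves on `C`, `w` a compatible family of elements
`w ∈ O(X)`. If `A` satisfies universal descent for the `v`-coverings (`VCov`) and turns the surjections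
`O(Y) → O(X)` with kernel in `⋂ wⁿ O(Y)` into quasi-isomorphisms, then it satisfies universal descent along the
`w`-coverings (`TauCov`): `ud_of_tauCov`.  `affLike_under`: the category of algebras over a ring.
-/

set_option autoImplicit false
set_option backward.isDefEq.respectTransparency false
set_option backward.isDefEq.respectTransparency.types false
set_option linter.unusedSectionVars false

universe u v w u' v'

open CategoryTheory CategoryTheory.Limits Opposite ComplexShape

namespace K617.TauDesc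

open K781.Desc K781.Cech K933.UnivDesc K617.UDQuasi K617.VC

/-- A pushout along a surjection. -/
theorem surjective_of_isPushout {A B A' B' : CommRingCat.{u}} {f : A ⟶ B} {g : A ⟶ A'} {inl : B ⟶ B'}
    {inr : A' ⟶ B'} (h : IsPushout f g inl inr) (hf : Function.Surjective f.hom) :
    Function.Surjective inr.hom ∧ ∀ x, inr.hom x = 0 → x ∈ (RingHom.ker f.hom).map g.hom := by
  let J : Ideal A' := (RingHom.ker f.hom).map g.hom
  have h1 : ∀ a ∈ RingHom.ker f.hom, (Ideal.Quotient.mk J).comp g.hom a = 0 := fun a ha =>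
    Ideal.Quotient.eq_zero_iff_mem.2 (Ideal.mem_map_of_mem _ ha)
  let b : B ⟶ CommRingCat.of (A' ⧸ J) :=
    CommRingCat.ofHom (RingHom.liftOfSurjective f.hom hf ⟨(Ideal.Quotient.mk J).comp g.hom, h1⟩)
  have hb : f ≫ b = g ≫ CommRingCat.ofHom (Ideal.Quotient.mk J) := by
    ext a
    exact RingHom.liftOfRightInverse_comp_apply _ _ (Function.rightInverse_surjInv hf)
      ⟨(Ideal.Quotient.mk J).comp g.hom, h1⟩ a
  have h2 : ∀ x ∈ J, inr.hom x = 0 := by
    have h3 : J ≤ RingHom.ker inr.hom := by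
      refine Ideal.map_le_iff_le_comap.2 fun a ha => ?_
      rw [Ideal.mem_comap, RingHom.mem_ker]
      have h4 : inr.hom (g.hom a) = inl.hom (f.hom a) := (ConcreteCategory.congr_hom h.w a).symm
      rw [h4, RingHom.mem_ker.1 ha, map_zero]
    exact fun x hx => h3 hx
  let l : CommRingCat.of (A' ⧸ J) ⟶ B' := CommRingCat.ofHom (Ideal.Quotient.lift J inr.hom h2)
  have hl : CommRingCat.ofHom (Ideal.Quotient.mk J) ≫ l = inr := by
    ext x
    rfl
  have hrl : h.desc b (CommRingCat.ofHom (Ideal.Quotient.mk J)) hb ≫ l = 𝟙 _ := by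
    apply h.hom_ext
    · rw [h.inl_desc_assoc, Category.comp_id]
      have : Epi f := ConcreteCategory.epi_of_surjective f hf
      rw [← cancel_epi f, reassoc_of% hb, hl, h.w]
    · rw [h.inr_desc_assoc, Category.comp_id, hl]
  constructor
  · intro y
    obtain ⟨x, hx⟩ := Ideal.Quotient.mk_surjective (h.desc b (CommRingCat.ofHom (Ideal.Quotient.mk J)) hb y)
    refine ⟨x, ?_⟩
    have h5 : inr.hom x = l (Ideal.Quotient.mk J x) := rfl
    rw [h5]
    refine (congrArg l hx).trans ?_
    exact ConcreteCategory.congr_hom hrl y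
  · intro x hx
    have h6 : (CommRingCat.ofHom (Ideal.Quotient.mk J)) x =
        h.desc b (CommRingCat.ofHom (Ideal.Quotient.mk J)) hb (inr x) :=
      (ConcreteCategory.congr_hom (h.inr_desc b _ hb) x).symm
    have h7 : (Ideal.Quotient.mk J) x = 0 := h6.trans (by
      have h8 : inr x = 0 := hx
      rw [h8, map_zero])
    exact Ideal.Quotient.eq_zero_iff_mem.1 h7

variable {C : Type u'} [Category.{v'} C] (O : Cᵒᵖ ⥤ CommRingCat.{u})

/-- The ring homomorphism attached to a morphism. -/
abbrev rh {X Y : C} (f : X ⟶ Y) : O.obj (op Y) →+* O.obj (op X) := (O.map f.op).hom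

lemma rh_comp {X Y Z : C} (f : X ⟶ Y) (g : Y ⟶ Z) : rh O (f ≫ g) = (rh O f).comp (rh O g) :=
  congrArg CommRingCat.Hom.hom (O.map_comp g.op f.op)

/-- The category behaves like the category of affine schemes over a base. -/
structure AffLike : Prop where
  push : ∀ ⦃Z X Y W : C⦄ (fst : Z ⟶ X) (snd : Z ⟶ Y) (f : X ⟶ W) (g : Y ⟶ W), IsPullback fst snd f g →
    IsPushout (O.map f.op) (O.map g.op) (O.map fst.op) (O.map snd.op)
  real : ∀ (X : C) (T : CommRingCat.{u}) (t : O.obj (op X) ⟶ T),
    ∃ (Y : C) (f : Y ⟶ X) (e : O.obj (op Y) ≅ T), O.map f.op ≫ e.hom = t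

/-- Every ring has a `v`-covering by a product of a.i.c. valuation rings. -/
def HasProdCover : Prop :=
  ∀ (R : Type u) [CommRing R], ∃ (I : Type u) (V : I → Type u) (_ : ∀ i, CommRing (V i)) (_ : ∀ i, IsDomain (V i))
    (_ : ∀ i, ValuationRing (V i)) (t : R →+* ∀ i, V i), (∀ i, Curves.IsAIC (V i)) ∧ VCov t

variable {O}

theorem uq_of_surjective (hO : AffLike O) {A : CochainComplex (Cᵒᵖ ⥤ AddCommGrpCat.{w}) ℤ}
    {a : ∀ X : C, O.obj (op X)} (ha : ∀ {X Y : C} (f : X ⟶ Y), rh O f (a Y) = a X)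
    (hU : ∀ {X Y : C} (f : X ⟶ Y), Function.Surjective (rh O f) → (∀ x, rh O f x = 0 → ∀ n, a Y ^ n ∣ x) →
      QMap A f)
    {X Y : C} (s : X ⟶ Y) (h1 : Function.Surjective (rh O s)) (h2 : ∀ x, rh O s x = 0 → ∀ n, a Y ^ n ∣ x) :
    UQ A s := by
  intro Z' Z s' c b sq
  obtain ⟨h3, h4⟩ := surjective_of_isPushout (hO.push c s' s b sq) h1
  refine hU s' h3 fun x hx n => ?_
  have h5 : (RingHom.ker (O.map s.op).hom).map (O.map b.op).hom ≤ Ideal.span {a Z ^ n} := by
    refine Ideal.map_le_iff_le_comap.2 fun y hy => ?_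
    rw [Ideal.mem_comap, Ideal.mem_span_singleton]
    obtain ⟨z, hz⟩ := h2 y (RingHom.mem_ker.1 hy) n
    rw [hz, map_mul, map_pow]
    have h6 : (O.map b.op).hom (a Y) = a Z := ha b
    rw [h6]
    exact dvd_mul_right _ _
  exact Ideal.mem_span_singleton.1 (h5 (h4 x hx))

variable [HasPullbacks C]
  [∀ (n : ℕ) (f : Arrow C), HasWidePullback f.right (fun _ : Fin (n + 1) => f.left) fun _ => f.hom]

/-- **Universal descent along `w`-coverings.** -/
theorem ud_of_tauCov (hO : AffLike O) {A : CochainComplex (Cᵒᵖ ⥤ AddCommGrpCat.{w}) ℤ} (hA : BB A)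
    {a : ∀ X : C, O.obj (op X)} (ha : ∀ {X Y : C} (f : X ⟶ Y), rh O f (a Y) = a X)
    (hV : ∀ {X Y : C} (f : X ⟶ Y), VCov (rh O f) → UD A f)
    (hU : ∀ {X Y : C} (f : X ⟶ Y), Function.Surjective (rh O f) → (∀ x, rh O f x = 0 → ∀ n, a Y ^ n ∣ x) →
      QMap A f)
    (hE : HasProdCover.{u}) {X Y : C} (f : X ⟶ Y) (hf : TauCov (a Y) (rh O f)) : UD A f := by
  obtain ⟨I, V, _, _, _, t, haic, ht⟩ := hE (O.obj (op Y))
  obtain ⟨T₁, h, e₁, he₁⟩ := hO.real Y (CommRingCat.of (∀ i, V i)) (CommRingCat.ofHom t)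
  have he₁' : e₁.hom.hom.comp (rh O h) = t := congrArg CommRingCat.Hom.hom he₁
  let w : ∀ i, V i := t (a Y)
  have hw₁ : e₁.hom.hom (a T₁) = w := by
    rw [← ha h]
    exact congrArg (fun g : O.obj (op Y) →+* ∀ i, V i => g (a Y)) he₁'
  obtain ⟨T₂, s, e₂, he₂⟩ := hO.real T₁ (CommRingCat.of (Sep w)) (e₁.hom ≫ CommRingCat.ofHom (toSep w))
  have he₂' : e₂.hom.hom.comp (rh O s) = (toSep w).comp e₁.hom.hom := congrArg CommRingCat.Hom.hom he₂
  have hinj₂ : Function.Injective e₂.hom.hom := (ConcreteCategory.bijective_of_isIso e₂.hom).1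
  have hb₁ : Function.Bijective e₁.hom.hom := ConcreteCategory.bijective_of_isIso e₁.hom
  have hh : UD A h := hV h (ht.of_comp_eq he₁')
  have hs : UQ A s := by
    refine uq_of_surjective hO ha hU s (fun y => ?_) fun x hx n => ?_
    · obtain ⟨x, hx⟩ := toSep_surjective w (e₂.hom.hom y)
      obtain ⟨x, rfl⟩ := hb₁.2 x
      refine ⟨x, hinj₂ ?_⟩
      exact (congrArg (fun g : O.obj (op T₁) →+* Sep w => g x) he₂').trans hx
    · have h1 : toSep w (e₁.hom.hom x) = 0 := by
        refine (congrArg (fun g : O.obj (op T₁) →+* Sep w => g x) he₂').symm.trans ?_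
        change e₂.hom.hom (rh O s x) = 0
        rw [hx, map_zero]
      obtain ⟨z, hz⟩ := (toSep_eq_zero_iff w _).1 h1 n
      obtain ⟨z, rfl⟩ := hb₁.2 z
      refine ⟨z, hb₁.1 ?_⟩
      rw [hz, map_mul, map_pow, hw₁]
  refine ud_of_local_uq hA f h hh s hs (hV _ ?_)
  have hpush := hO.push _ _ _ _ (IsPullback.of_hasPullback f (s ≫ h))
  have hcov : VCov ((rh O (pullback.snd f (s ≫ h))).comp e₂.inv.hom) := by
    refine vcov_sep haic w hf t rfl _ fun Q _ p q hpq => ?_
    have h3 : (p.comp e₂.hom.hom).comp (rh O (s ≫ h)) = q.comp (rh O f) := by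
      rw [hpq, rh_comp, RingHom.comp_assoc, ← RingHom.comp_assoc (rh O h) (rh O s), he₂', RingHom.comp_assoc, he₁']
    let c := hpush.desc (CommRingCat.ofHom q) (CommRingCat.ofHom (p.comp e₂.hom.hom))
      (CommRingCat.hom_ext h3.symm)
    have hc : O.map (pullback.snd f (s ≫ h)).op ≫ c = CommRingCat.ofHom (p.comp e₂.hom.hom) :=
      hpush.inr_desc _ _ _
    refine ⟨c.hom, ?_⟩
    have hc' : c.hom.comp (rh O (pullback.snd f (s ≫ h))) = p.comp e₂.hom.hom := congrArg CommRingCat.Hom.hom hc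
    rw [← RingHom.comp_assoc, hc', RingHom.comp_assoc]
    have h4 : e₂.hom.hom.comp e₂.inv.hom = RingHom.id _ := congrArg CommRingCat.Hom.hom e₂.inv_hom_id
    rw [h4, RingHom.comp_id]
  have h5 : VCov e₂.hom.hom := vcov_of_bijective _ (ConcreteCategory.bijective_of_isIso e₂.hom)
  have h6 := h5.comp hcov
  have h7 : e₂.inv.hom.comp e₂.hom.hom = RingHom.id _ := congrArg CommRingCat.Hom.hom e₂.hom_inv_id
  rw [RingHom.comp_assoc, h7, RingHom.comp_id] at h6
  exact h6

section CE

/-- `φ` is an isomorphism modulo all powers of `a`. -/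
def CE {R R' : Type u} [CommRing R] [CommRing R'] (a : R) (φ : R →+* R') : Prop :=
  (∀ (n : ℕ) (y : R'), ∃ x, φ a ^ n ∣ y - φ x) ∧ ∀ (n : ℕ) (x : R), φ a ^ n ∣ φ x → a ^ n ∣ x

theorem CE.of_surjective {R R' : Type u} [CommRing R] [CommRing R'] {a : R} {φ : R →+* R'}
    (h1 : Function.Surjective φ) (h2 : ∀ x, φ x = 0 → ∀ n, a ^ n ∣ x) : CE a φ := by
  refine ⟨fun n y => ?_, fun n x hx => ?_⟩
  · obtain ⟨x, rfl⟩ := h1 y
    exact ⟨x, by rw [sub_self]; exact dvd_zero _⟩
  · obtain ⟨y, hy⟩ := hx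
    obtain ⟨z, rfl⟩ := h1 y
    have h3 : φ (x - a ^ n * z) = 0 := by rw [map_sub, map_mul, map_pow, hy, sub_self]
    have h4 : x = (x - a ^ n * z) + a ^ n * z := by ring
    rw [h4]
    exact dvd_add (h2 _ h3 n) (Dvd.intro _ rfl)

theorem CE.comp {R R' R'' : Type u} [CommRing R] [CommRing R'] [CommRing R''] {a : R} {φ : R →+* R'}
    {χ : R' →+* R''} (hφ : CE a φ) (hχ : CE (φ a) χ) : CE a (χ.comp φ) := by
  refine ⟨fun n y => ?_, fun n x hx => ?_⟩
  · obtain ⟨y', h1⟩ := hχ.1 n y
    obtain ⟨x, h2⟩ := hφ.1 n y'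
    refine ⟨x, ?_⟩
    have h3 : y - (χ.comp φ) x = (y - χ y') + χ (y' - φ x) := by
      rw [RingHom.comp_apply, map_sub]
      ring
    rw [h3]
    refine dvd_add h1 ?_
    have h4 := map_dvd χ h2
    rwa [map_pow] at h4
  · exact hφ.2 n x (hχ.2 n _ hx)

theorem CE.of_bijective {R R' : Type u} [CommRing R] [CommRing R'] {a : R} {φ : R →+* R'}
    (h : Function.Bijective φ) : CE a φ :=
  CE.of_surjective h.2 fun x hx n => by
    rw [(injective_iff_map_eq_zero φ).1 h.1 x hx]
    exact dvd_zero _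

/-- Stability under base change. -/
theorem CE.of_isPushout {A B A' B' : CommRingCat.{u}} {f : A ⟶ B} {g : A ⟶ A'} {inl : B ⟶ B'}
    {inr : A' ⟶ B'} (h : IsPushout f g inl inr) {a : A} (hf : CE a f.hom) : CE (g.hom a) inr.hom := by
  have hw : ∀ x : A, inr.hom (g.hom x) = inl.hom (f.hom x) := fun x => (ConcreteCategory.congr_hom h.w x).symm
  constructor
  · -- the subring of the elements congruent to elements of the image of `A'` modulo `aⁿ` is everything
    intro n y
    let J : Ideal B' := Ideal.span {inr.hom (g.hom a) ^ n}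
    let S : Subring B' := ((((Ideal.Quotient.mk J).comp inr.hom).range).comap (Ideal.Quotient.mk J))
    have hS : ∀ y, y ∈ S ↔ ∃ x, inr.hom (g.hom a) ^ n ∣ y - inr.hom x := by
      intro y
      constructor
      · rintro ⟨x, hx⟩
        refine ⟨x, ?_⟩
        have h1 : (Ideal.Quotient.mk J) (y - inr.hom x) = 0 := by
          rw [map_sub, sub_eq_zero]
          exact hx.symm
        exact Ideal.mem_span_singleton.1 (Ideal.Quotient.eq_zero_iff_mem.1 h1)
      · rintro ⟨x, hx⟩
        refine ⟨x, ?_⟩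
        have h1 : (Ideal.Quotient.mk J) (y - inr.hom x) = 0 :=
          Ideal.Quotient.eq_zero_iff_mem.2 (Ideal.mem_span_singleton.2 hx)
        rw [map_sub, sub_eq_zero] at h1
        exact h1.symm
    have h1 : ∀ b, inl.hom b ∈ S := by
      intro b
      rw [hS]
      obtain ⟨x, hx⟩ := hf.1 n b
      refine ⟨g.hom x, ?_⟩
      rw [hw, hw, ← map_sub, ← map_pow]
      exact map_dvd inl.hom hx
    have h2 : ∀ x, inr.hom x ∈ S := fun x => (hS _).2 ⟨x, by rw [sub_self]; exact dvd_zero _⟩
    let b' : B ⟶ CommRingCat.of S := CommRingCat.ofHom (inl.hom.codRestrict S h1)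
    let a' : A' ⟶ CommRingCat.of S := CommRingCat.ofHom (inr.hom.codRestrict S h2)
    have h3 : f ≫ b' = g ≫ a' := by
      ext x
      exact (hw x).symm
    have h4 : h.desc b' a' h3 ≫ CommRingCat.ofHom S.subtype = 𝟙 _ := by
      apply h.hom_ext
      · rw [h.inl_desc_assoc, Category.comp_id]
        rfl
      · rw [h.inr_desc_assoc, Category.comp_id]
        rfl
    have h5 : ((h.desc b' a' h3).hom y : B') = y := ConcreteCategory.congr_hom h4 y
    rw [← hS, ← h5]
    exact ((h.desc b' a' h3).hom y).2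
  · intro n x hx
    let J : Ideal A' := Ideal.span {g.hom a ^ n}
    -- the morphism `B → A'/aⁿ`
    have hex : ∀ y : B, ∃ x : A, f.hom a ^ n ∣ y - f.hom x := hf.1 n
    choose σ hσ using hex
    have key : ∀ y x, f.hom a ^ n ∣ y - f.hom x → Ideal.Quotient.mk J (g.hom (σ y)) = Ideal.Quotient.mk J (g.hom x) := by
      intro y x hx
      have h1 : f.hom a ^ n ∣ f.hom (σ y - x) := by
        have h2 : f.hom (σ y - x) = (y - f.hom x) - (y - f.hom (σ y)) := by
          rw [map_sub]
          ring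
        rw [h2]
        exact dvd_sub hx (hσ y)
      have h3 := hf.2 n _ h1
      rw [← sub_eq_zero, ← map_sub, ← map_sub, Ideal.Quotient.eq_zero_iff_mem, Ideal.mem_span_singleton, ← map_pow]
      exact map_dvd g.hom h3
    let ρ : B →+* A' ⧸ J :=
      { toFun := fun y => Ideal.Quotient.mk J (g.hom (σ y))
        map_one' := by
          rw [key 1 1 (by rw [map_one, sub_self]; exact dvd_zero _), map_one, map_one]
        map_mul' := by
          intro y z
          rw [key (y * z) (σ y * σ z), map_mul, map_mul]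
          have h2 : y * z - f.hom (σ y * σ z) = (y - f.hom (σ y)) * z + f.hom (σ y) * (z - f.hom (σ z)) := by
            rw [map_mul]
            ring
          rw [h2]
          exact dvd_add (Dvd.dvd.mul_right (hσ y) _) (Dvd.dvd.mul_left (hσ z) _)
        map_zero' := by
          rw [key 0 0 (by rw [map_zero, sub_self]; exact dvd_zero _), map_zero, map_zero]
        map_add' := by
          intro y z
          rw [key (y + z) (σ y + σ z), map_add, map_add]
          have h2 : y + z - f.hom (σ y + σ z) = (y - f.hom (σ y)) + (z - f.hom (σ z)) := by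
            rw [map_add]
            ring
          rw [h2]
          exact dvd_add (hσ y) (hσ z) }
    have hρ : f ≫ CommRingCat.ofHom ρ = g ≫ CommRingCat.ofHom (Ideal.Quotient.mk J) := by
      ext z
      exact key (f.hom z) z (by rw [sub_self]; exact dvd_zero _)
    let d := h.desc (CommRingCat.ofHom ρ) (CommRingCat.ofHom (Ideal.Quotient.mk J)) hρ
    have hd : ∀ z : A', d.hom (inr.hom z) = Ideal.Quotient.mk J z := fun z =>
      ConcreteCategory.congr_hom (h.inr_desc _ _ hρ) z
    have h6 := map_dvd d.hom hx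
    rw [map_pow, hd, hd, ← map_pow] at h6
    have h7 : (Ideal.Quotient.mk J) (g.hom a ^ n) = 0 :=
      Ideal.Quotient.eq_zero_iff_mem.2 (Ideal.mem_span_singleton_self _)
    rw [h7, zero_dvd_iff, Ideal.Quotient.eq_zero_iff_mem, Ideal.mem_span_singleton] at h6
    exact h6

end CE

end K617.TauDesc
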