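import Groth.Agent.EtDual.K617.SharpCE
import Groth.Agent.EtDual.K933.SharpFun

/-!
# Universal descent on the category of perfect algebras (seat 617)

For a complex `K` of presheaves on `Over (Spec ℤ[x₁, …, x_d])` whose pullbacks to the categories of algebras satisfy
descent for `v`-coverings (`hV`) and are invariant under completion (`hU`):
* `ud_K2`: `B ↦ K(B, x)` satisfies universal descent for the `ξ₀`-coverings of perfect algebras;
* `ud_K1`: `B ↦ K(W(B)/ξ, [x])` satisfies universal descent for the `ξ₀`-coverings of perfect algebras.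
-/

set_option autoImplicit false
set_option backward.isDefEq.respectTransparency false
set_option backward.isDefEq.respectTransparency.types false
set_option linter.unusedSectionVars false

universe u v w

open CategoryTheory CategoryTheory.Limits Opposite ComplexShape Ideal AlgebraicGeometry

namespace K617.PerfUD

open K148.Perf K148.Prim K617.TauDesc K617.VC K617.UDQuasi K617.SharpCE K781.Desc K781.Cech K933.UnivDesc
  K933.PerfCat

variable {d : ℕ}

/-- Descent for `v`-coverings on the category of algebras over `R₀`. -/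
def HV (K : CochainComplex ((Over (Spec (Pd.{u} d)))ᵒᵖ ⥤ AddCommGrpCat.{w}) ℤ) {R₀ : CommRingCat.{u}}
    (x : Fin d → R₀) : Prop :=
  ∀ ⦃X Y : (Under R₀)ᵒᵖ⦄ (f : X ⟶ Y), VCov f.unop.right.hom → UD (rs (ptO x).op K) f

/-- Invariance under `a`-adic completion on the category of algebras over `R₀`. -/
def HU (K : CochainComplex ((Over (Spec (Pd.{u} d)))ᵒᵖ ⥤ AddCommGrpCat.{w}) ℤ) {R₀ : CommRingCat.{u}}
    (x : Fin d → R₀) (a : R₀) : Prop :=
  ∀ ⦃X Y : (Under R₀)ᵒᵖ⦄ (f : X ⟶ Y), CE (el a Y) f.unop.right.hom → QMap (rs (ptO x).op K) f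

variable {K : CochainComplex ((Over (Spec (Pd.{u} d)))ᵒᵖ ⥤ AddCommGrpCat.{w}) ℤ}

/-- Universal descent for the `a`-coverings of `R₀`-algebras. -/
theorem ud_pt (hK : BB K) {R₀ : CommRingCat.{u}} (x : Fin d → R₀) (a : R₀) (hV : HV K x) (hU : HU K x a)
    (hE : HasProdCover.{u}) {X T : (Under R₀)ᵒᵖ} (f : X ⟶ T) (hf : tcovU a f) : UD (rs (ptO x).op K) f :=
  ud_of_tauCov' (affLike_under R₀) (bb_rs hK _) (a := fun X => el a X) (fun f => el_map a f)
    (fun f h => hV f h) (fun f h => hU f h) hE f hf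

variable {p : ℕ} [hp : Fact p.Prime] {B₀ : CommRingCat.{u}}

/-- **Universal descent for `K2`.** -/
theorem ud_K2 (hK : BB K) (x : Fin d → B₀) (a : B₀) (hV : HV K x) (hU : HU K x a) (hE : HasProdCover.{u})
    {X T : PC p B₀} (f : X ⟶ T) (hf : tcov a f) : UD (rs ((F2 p x).op ⋙ spU _).op K) f := by
  have h1 : UD (rs (ptO x).op K) ((perf p B₀).ι.op.map f) := ud_pt hK x a hV hU hE _ hf
  exact UD.map (F := (perf p B₀).ι.op) (A := rs (ptO x).op K) h1

/-- The underlying rings of perfect algebras. -/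
abbrev perfO (p : ℕ) (B₀ : CommRingCat.{u}) : (PC p B₀)ᵒᵖ ⥤ CommRingCat.{u} :=
  unopUnop (Perf p B₀) ⋙ (perf p B₀).ι ⋙ Under.forget B₀

theorem perfO_push ⦃P X Y T : PC p B₀⦄ (q₁ : P ⟶ X) (q₂ : P ⟶ Y) (f : X ⟶ T) (g : Y ⟶ T)
    (sq : IsPullback q₁ q₂ f g) :
    IsPushout ((perfO p B₀).map f.op) ((perfO p B₀).map g.op) ((perfO p B₀).map q₁.op)
      ((perfO p B₀).map q₂.op) := by
  have h1 : IsPushout g.unop f.unop q₂.unop q₁.unop := sq.unop
  have h2 := (h1.map (perf p B₀).ι).map (Under.forget B₀)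
  exact h2.flip

/-- **Universal descent for `K1`.** -/
theorem ud_K1 (hK : BB K) (ξ : WittVector p (B₀ : Type u)) (hξ : IsDist ξ) (x : Fin d → B₀)
    (hV : HV K (tx₀ ξ x)) (hU : HU K (tx₀ ξ x) ((p : ℕ) : CommRingCat.of (WittVector p (B₀ : Type u) ⧸ span {ξ})))
    (hE : HasProdCover.{u}) {X T : PC p B₀} (f : X ⟶ T) (hf : tcov (ξ.coeff 0) f) :
    UD (rs ((F1 ξ x).op ⋙ spU _).op K) f := by
  have h1 := ud_sharp (p := p) (affLike_under (CommRingCat.of (WittVector p (B₀ : Type u) ⧸ span {ξ})))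
    (A := rs (ptO (tx₀ ξ x)).op K) (bb_rs hK _) (fun f h => hV f h) (fun {X Y} f h => hU f (by
      have e : el ((p : ℕ) : CommRingCat.of (WittVector p (B₀ : Type u) ⧸ span {ξ})) Y =
          ((p : ℕ) : Y.unop.right) := map_natCast Y.unop.hom.hom p
      rw [e]
      exact h)) hE
    (OD := perfO p B₀) (fun X => X.unop.property) perfO_push (fun X => xi ξ X.unop) (fun {X Y} f => xi_map ξ f.unop)
    (fun X => isDist_map hξ _) (sharp ξ).op (fun X => RingEquiv.refl _) (fun {X Y} f x y h => ?_) f ?_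
  · exact h1
  · have h2 : y = Ideal.Quotient.mk _ x := h
    rw [h2]
    rfl
  · rw [WittVector.map_coeff]
    exact hf

end K617.PerfUD
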