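import Groth.Agent.EtDual.K617.AicVal
import Groth.Agent.HTop.K346.ValLift
import Mathlib.RingTheory.Flat.TorsionFree
import Mathlib.RingTheory.Flat.FaithfullyFlat.Basic
import Mathlib.AlgebraicGeometry.Morphisms.Flat

/-!
# The calculus of ring maps with the valuation lifting property (seat 617)

`VCov φ` (`φ : R →+* R'`, all in `Type u`): every map of `R` to a valuation ring `V` extends to a map of `R'` to a
valuation ring `V'` with `V → V'` local and injective.

* `vcov_iff`: comparison with `HTop.HasValLift` of the one-member family `Spec R' ⟶ Spec R`;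
* `VCov.comp`, `VCov.of_comp`, `VCov.of_weakPushout`, `VCov.tensor`, `vcov_of_flat`, `vcov_of_bijective`.
-/

set_option autoImplicit false
universe w u

open CategoryTheory CategoryTheory.Limits AlgebraicGeometry
open scoped TensorProduct

namespace K617.VC

/-- The valuation lifting property. -/
def VCov {R R' : Type u} [CommRing R] [CommRing R'] (φ : R →+* R') : Prop :=
  ∀ (V : Type u) [CommRing V] [IsDomain V] [ValuationRing V] (ψ : R →+* V),
    ∃ (V' : Type u) (_ : CommRing V') (_ : IsDomain V') (_ : ValuationRing V') (i : V →+* V') (ψ' : R' →+* V'),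
      Function.Injective i ∧ IsLocalHom i ∧ ψ'.comp φ = i.comp ψ

section

variable {R R' R'' S S' : Type u} [CommRing R] [CommRing R'] [CommRing R''] [CommRing S] [CommRing S']

theorem VCov.id : VCov (RingHom.id R) := fun V _ _ _ ψ =>
  ⟨V, inferInstance, inferInstance, inferInstance, RingHom.id V, ψ, fun _ _ h => h, ⟨fun _ h => h⟩, rfl⟩

theorem VCov.comp {φ : R →+* R'} {χ : R' →+* R''} (hφ : VCov φ) (hχ : VCov χ) : VCov (χ.comp φ) := by
  intro V _ _ _ ψ
  obtain ⟨V', _, _, _, i, ψ', hi, hl, h⟩ := hφ V ψ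
  obtain ⟨V'', _, _, _, i', ψ'', hi', hl', h'⟩ := hχ V' ψ'
  refine ⟨V'', inferInstance, inferInstance, inferInstance, i'.comp i, ψ'', hi'.comp hi, inferInstance, ?_⟩
  rw [← RingHom.comp_assoc, h', RingHom.comp_assoc, h, RingHom.comp_assoc]

theorem VCov.of_comp {φ : R →+* R'} {χ : R' →+* R''} (h : VCov (χ.comp φ)) : VCov φ := by
  intro V _ _ _ ψ
  obtain ⟨V', _, _, _, i, ψ', hi, hl, h'⟩ := h V ψ
  exact ⟨V', inferInstance, inferInstance, inferInstance, i, ψ'.comp χ, hi, hl, by
    rw [RingHom.comp_assoc, h']⟩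

/-- If `R → R'` has a retraction or, more generally, if some map out of `R'` restricts to a `VCov`. -/
theorem VCov.of_comp_eq {φ : R →+* R'} {χ : R' →+* R''} {ρ : R →+* R''} (h : VCov ρ) (e : χ.comp φ = ρ) : VCov φ :=
  VCov.of_comp (χ := χ) (e ▸ h)

/-- Base change: it suffices that `S'` is a weak pushout. -/
theorem VCov.of_weakPushout {φ : R →+* R'} (h : VCov φ) (s : R →+* S) (φ' : S →+* S')
    (hp : ∀ (V : Type u) [CommRing V] (a : S →+* V) (b : R' →+* V), b.comp φ = a.comp s →
      ∃ c : S' →+* V, c.comp φ' = a) : VCov φ' := by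
  intro V _ _ _ ψ
  obtain ⟨V', _, _, _, i, ψ', hi, hl, h'⟩ := h V (ψ.comp s)
  obtain ⟨c, hc⟩ := hp V' (i.comp ψ) ψ' (by rw [h', RingHom.comp_assoc])
  exact ⟨V', inferInstance, inferInstance, inferInstance, i, c, hi, hl, hc⟩

theorem weakPushout_tensor [Algebra R R'] [Algebra R S] (V : Type u) [CommRing V] (a : S →+* V) (b : R' →+* V)
    (hab : b.comp (algebraMap R R') = a.comp (algebraMap R S)) :
    ∃ c : TensorProduct R S R' →+* V, c.comp (algebraMap S (TensorProduct R S R')) = a ∧
      c.comp (Algebra.TensorProduct.includeRight : R' →ₐ[R] TensorProduct R S R').toRingHom = b := by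
  let : Algebra R V := (a.comp (algebraMap R S)).toAlgebra
  let a' : S →ₐ[R] V := { a with commutes' := fun r => rfl }
  let b' : R' →ₐ[R] V := { b with commutes' := fun r => congrArg (fun f : R →+* V => f r) hab }
  refine ⟨(Algebra.TensorProduct.lift a' b' fun _ _ => Commute.all _ _).toRingHom, ?_, ?_⟩
  · ext x
    change Algebra.TensorProduct.lift a' b' (fun _ _ => Commute.all _ _) (x ⊗ₜ[R] 1) = a x
    rw [Algebra.TensorProduct.lift_tmul, map_one, mul_one]
    rfl
  · ext x
    change Algebra.TensorProduct.lift a' b' (fun _ _ => Commute.all _ _) ((1 : S) ⊗ₜ[R] x) = b x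
    rw [Algebra.TensorProduct.lift_tmul, map_one, one_mul]
    rfl

theorem VCov.tensor [Algebra R R'] [Algebra R S] (h : VCov (algebraMap R R')) :
    VCov (algebraMap S (TensorProduct R S R')) :=
  h.of_weakPushout (algebraMap R S) _ fun V _ a b hab => (weakPushout_tensor V a b hab).imp fun _ h => h.1

theorem vcov_of_bijective (φ : R →+* R') (h : Function.Bijective φ) : VCov φ := by
  intro V _ _ _ ψ
  let e : R ≃+* R' := RingEquiv.ofBijective φ h
  refine ⟨V, inferInstance, inferInstance, inferInstance, RingHom.id V, ψ.comp (e.symm : R' →+* R),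
    fun _ _ h => h, ⟨fun _ h => h⟩, ?_⟩
  ext x
  change ψ (e.symm (e x)) = ψ x
  rw [e.symm_apply_apply]

/-- Comparison with the property of schemes. -/
theorem vcov_iff (φ : R →+* R') :
    VCov φ ↔ HTop.HasValLift (PreZeroHypercover.singleton.{w} (Spec.map (CommRingCat.ofHom φ))) := by
  constructor
  · intro h V _ _ g
    obtain ⟨g₀, rfl⟩ := Spec.map_surjective g
    obtain ⟨V', _, _, _, i, ψ', hi, hl, h'⟩ := h V g₀.hom
    refine ⟨.of V', inferInstance, inferInstance, CommRingCat.ofHom i, ⟨hi, hl⟩, PUnit.unit,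
      Spec.map (CommRingCat.ofHom ψ'), ?_⟩
    change Spec.map (CommRingCat.ofHom ψ') ≫ Spec.map (CommRingCat.ofHom φ) = _
    rw [← Spec.map_comp, ← Spec.map_comp]
    congr 1
    ext x
    exact congrArg (fun f : R →+* V' => f x) h'
  · intro h V _ _ _ ψ
    obtain ⟨W, _, _, i, ⟨hi, hl⟩, _, g', hg'⟩ := h (.of V) (Spec.map (CommRingCat.ofHom ψ))
    obtain ⟨g₀, hg₀⟩ : ∃ g₀ : CommRingCat.of R' ⟶ W, Spec.map g₀ = g' := Spec.map_surjective _
    have h2 : Spec.map g₀ ≫ Spec.map (CommRingCat.ofHom φ) = Spec.map i ≫ Spec.map (CommRingCat.ofHom ψ) := by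
      rw [hg₀]
      exact hg'
    rw [← Spec.map_comp, ← Spec.map_comp] at h2
    have h1 := Spec.map_injective h2
    refine ⟨W, inferInstance, inferInstance, inferInstance, i.hom, g₀.hom, hi, hl, ?_⟩
    ext x
    exact congrArg (fun f : CommRingCat.of R ⟶ W => f.hom x) h1

/-- Faithfully flat maps have the valuation lifting property. -/
theorem vcov_of_flat (φ : R →+* R') (hφ : φ.Flat)
    (hs : Function.Surjective (PrimeSpectrum.comap φ)) : VCov φ := by
  rw [vcov_iff.{0}]
  refine K346.ValLift.hasValLift_of_flat _ (fun _ => ?_) fun x => ?_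
  · change Flat (Spec.map (CommRingCat.ofHom φ))
    rw [Flat.SpecMap_iff]
    exact hφ
  · obtain ⟨y, hy⟩ := hs x
    exact ⟨PUnit.unit, y, hy⟩

theorem vcov_of_faithfullyFlat [Algebra R R'] [Module.FaithfullyFlat R R'] : VCov (algebraMap R R') :=
  vcov_of_flat _ (by rw [RingHom.flat_algebraMap_iff]; infer_instance)
    PrimeSpectrum.comap_surjective_of_faithfullyFlat

end

end K617.VC
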