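import Groth.Agent.EtDual.K617.LocUQ
import Groth.Agent.EtDual.K617.PerfUD

/-!
# Etale neighbourhoods of a principal closed subset (seat 617)

`A` a bounded below complex of presheaves on `(Under R₀)ᵒᵖ` satisfying descent for `v`-coverings, `w₀ ∈ R₀`, such that
`R ↦ R/(e)` induces a quasi-isomorphism whenever `e` is an idempotent divisible by `w₀` (`HAdd`). If `C → C'` is etale
and `C/w₀ → C'/w₀` is bijective then `C → C'` belongs to `UQ A` (`uq_of_etale`).
-/

set_option autoImplicit false
set_option backward.isDefEq.respectTransparency false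
set_option backward.isDefEq.respectTransparency.types false
set_option linter.unusedSectionVars false

universe u v w

open CategoryTheory CategoryTheory.Limits Opposite TensorProduct Ideal

namespace K617.EtNbhd

open K617.TauDesc K617.VC K617.UDQuasi K781.Desc K781.Cech K933.UnivDesc K933.PerfCat

section ring

theorem flat_prod {R : Type*} [CommRing R] (M N : Type*) [AddCommGroup M] [AddCommGroup N] [Module R M] [Module R N]
    [Module.Flat R M] [Module.Flat R N] : Module.Flat R (M × N) := by
  rw [Module.Flat.iff_rTensor_injective]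
  intro I _
  have h1 := Module.Flat.rTensor_preserves_injective_linearMap (M := M) I.subtype Subtype.val_injective
  have h2 := Module.Flat.rTensor_preserves_injective_linearMap (M := N) I.subtype Subtype.val_injective
  have h3 : (TensorProduct.prodRight R R R M N).toLinearMap ∘ₗ (LinearMap.rTensor (M × N) I.subtype) =
      (LinearMap.prodMap (LinearMap.rTensor M I.subtype) (LinearMap.rTensor N I.subtype)) ∘ₗ
        (TensorProduct.prodRight R R I M N).toLinearMap := by
    apply TensorProduct.ext'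
    intro x y
    simp
  have h4 : Function.Injective ((TensorProduct.prodRight R R R M N).toLinearMap ∘ₗ
      (LinearMap.rTensor (M × N) I.subtype)) := by
    rw [h3]
    exact (h1.prodMap h2).comp (TensorProduct.prodRight R R I M N).injective
  exact Function.Injective.of_comp h4

variable {C C' : Type u} [CommRing C] [CommRing C']

/-- `φ` induces a bijection modulo `a`. -/
structure ModBij (a : C) (φ : C →+* C') : Prop where
  surj : ∀ y : C', ∃ x : C, φ a ∣ y - φ x
  inj : ∀ x : C, φ a ∣ φ x → a ∣ x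

/-- A prime containing `a` lifts to `C'`. -/
theorem ModBij.exists_prime {a : C} {φ : C →+* C'} (h : ModBij a φ) (P : Ideal C) [P.IsPrime] (ha : a ∈ P) :
    ∃ P' : Ideal C', P'.IsPrime ∧ P'.comap φ = P := by
  have hmap : span {a} ≤ (span {φ a}).comap φ := by
    rw [span_singleton_le_iff_mem, mem_comap]
    exact mem_span_singleton_self _
  let e₀ : C ⧸ span {a} →+* C' ⧸ span {φ a} := Ideal.quotientMap _ φ hmap
  have hb : Function.Bijective e₀ := by
    constructor
    · rw [injective_iff_map_eq_zero]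
      intro x hx
      obtain ⟨x, rfl⟩ := Ideal.Quotient.mk_surjective x
      rw [Ideal.quotientMap_mk, Ideal.Quotient.eq_zero_iff_mem, mem_span_singleton] at hx
      rw [Ideal.Quotient.eq_zero_iff_mem, mem_span_singleton]
      exact h.inj x hx
    · intro y
      obtain ⟨y, rfl⟩ := Ideal.Quotient.mk_surjective y
      obtain ⟨x, hx⟩ := h.surj y
      refine ⟨Ideal.Quotient.mk _ x, ?_⟩
      rw [Ideal.quotientMap_mk, eq_comm, ← sub_eq_zero, ← map_sub, Ideal.Quotient.eq_zero_iff_mem,
        mem_span_singleton]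
      exact hx
  let e : C ⧸ span {a} ≃+* C' ⧸ span {φ a} := RingEquiv.ofBijective e₀ hb
  have hP : span {a} ≤ P := by rwa [span_singleton_le_iff_mem]
  let ρ : C' →+* C ⧸ P := (Ideal.Quotient.factor hP).comp
    ((e.symm : C' ⧸ span {φ a} →+* C ⧸ span {a}).comp (Ideal.Quotient.mk _))
  refine ⟨RingHom.ker ρ, RingHom.ker_isPrime ρ, ?_⟩
  ext x
  rw [mem_comap, RingHom.mem_ker]
  have h1 : e.symm (Ideal.Quotient.mk _ (φ x)) = Ideal.Quotient.mk _ x := by
    rw [RingEquiv.symm_apply_eq]
    rfl
  change Ideal.Quotient.factor hP (e.symm (Ideal.Quotient.mk _ (φ x))) = 0 ↔ _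
  rw [h1, Ideal.Quotient.factor_mk, Ideal.Quotient.eq_zero_iff_mem]

theorem vcov_prod (a : C) {φ : C →+* C'} (hf : φ.Flat) (h : ModBij a φ) :
    VCov (φ.prod (algebraMap C (Localization.Away a))) := by
  refine vcov_of_flat _ ?_ ?_
  · let := φ.toAlgebra
    have h1 : Module.Flat C C' := hf
    have h2 : Module.Flat C (C' × Localization.Away a) := flat_prod _ _
    have h3 : (algebraMap C (C' × Localization.Away a)).Flat := RingHom.flat_algebraMap_iff.2 h2
    exact h3
  · intro P
    by_cases ha : a ∈ P.asIdeal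
    · obtain ⟨P', hP', hc⟩ := h.exists_prime P.asIdeal ha
      refine ⟨PrimeSpectrum.comap (RingHom.fst C' (Localization.Away a)) ⟨P', hP'⟩, ?_⟩
      apply PrimeSpectrum.ext
      exact hc
    · have h1 : P ∈ Set.range (PrimeSpectrum.comap (algebraMap C (Localization.Away a))) := by
        rw [PrimeSpectrum.localization_away_comap_range (Localization.Away a) a]
        exact ha
      obtain ⟨Q, hQ⟩ := h1
      refine ⟨PrimeSpectrum.comap (RingHom.snd C' (Localization.Away a)) Q, ?_⟩
      rw [← hQ]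
      rfl

/-- Surjectivity modulo `a` passes to pushouts. -/
theorem exists_dvd_of_isPushout {A B A' B' : CommRingCat.{u}} {f : A ⟶ B} {g : A ⟶ A'} {inl : B ⟶ B'}
    {inr : A' ⟶ B'} (h : IsPushout f g inl inr) (a : A) (hf : ∀ y : B, ∃ x : A, f.hom a ∣ y - f.hom x) (y : B') :
    ∃ x : A', inr.hom (g.hom a) ∣ y - inr.hom x := by
  have hw : ∀ x : A, inr.hom (g.hom x) = inl.hom (f.hom x) := fun x => (ConcreteCategory.congr_hom h.w x).symm
  let J : Ideal B' := Ideal.span {inr.hom (g.hom a)}
  let S : Subring B' := ((((Ideal.Quotient.mk J).comp inr.hom).range).comap (Ideal.Quotient.mk J))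
  have hS : ∀ y, y ∈ S ↔ ∃ x, inr.hom (g.hom a) ∣ y - inr.hom x := by
    intro y
    constructor
    · rintro ⟨x, hx⟩
      refine ⟨x, ?_⟩
      have h1 : (Ideal.Quotient.mk J) (y - inr.hom x) = 0 := by
        rw [map_sub, sub_eq_zero]
        exact hx.symm
      exact Ideal.mem_span_singleton.1 (Ideal.Quotient.eq_zero_iff_mem.1 h1)
    · rintro ⟨x, hx⟩
      refine ⟨x, ?_⟩
      have h1 : (Ideal.Quotient.mk J) (y - inr.hom x) = 0 :=
        Ideal.Quotient.eq_zero_iff_mem.2 (Ideal.mem_span_singleton.2 hx)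
      rw [map_sub, sub_eq_zero] at h1
      exact h1.symm
  have h1 : ∀ b, inl.hom b ∈ S := by
    intro b
    rw [hS]
    obtain ⟨x, hx⟩ := hf b
    refine ⟨g.hom x, ?_⟩
    rw [hw, hw, ← map_sub]
    exact map_dvd inl.hom hx
  have h2 : ∀ x, inr.hom x ∈ S := fun x => (hS _).2 ⟨x, by rw [sub_self]; exact dvd_zero _⟩
  let b' : B ⟶ CommRingCat.of S := CommRingCat.ofHom (inl.hom.codRestrict S h1)
  let a' : A' ⟶ CommRingCat.of S := CommRingCat.ofHom (inr.hom.codRestrict S h2)
  have h3 : f ≫ b' = g ≫ a' := by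
    ext x
    exact (hw x).symm
  have h4 : h.desc b' a' h3 ≫ CommRingCat.ofHom S.subtype = 𝟙 _ := by
    apply h.hom_ext
    · rw [h.inl_desc_assoc, Category.comp_id]
      rfl
    · rw [h.inr_desc_assoc, Category.comp_id]
      rfl
  have h5 : ((h.desc b' a' h3).hom y : B') = y := ConcreteCategory.congr_hom h4 y
  rw [← hS, ← h5]
  exact ((h.desc b' a' h3).hom y).2

/-- The idempotent of the diagonal. -/
theorem exists_idem {A B P : CommRingCat.{u}} {f : A ⟶ B} {i₁ i₂ : B ⟶ P} (h : IsPushout f f i₁ i₂)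
    (hf : f.hom.Etale) (δ : P ⟶ B) (h1 : i₁ ≫ δ = 𝟙 B) (h2 : i₂ ≫ δ = 𝟙 B) :
    ∃ ε : P, ε * ε = ε ∧ ∀ x, δ.hom x = 0 ↔ ε ∣ x := by
  algebraize [f.hom]
  have hu : Algebra.FormallyUnramified A B := inferInstance
  obtain ⟨t, ht1, ht2⟩ := (Algebra.FormallyUnramified.iff_exists_tensorProduct (R := A) (S := B)).1 hu
  have e1 : ∀ b, δ.hom (i₁.hom b) = b := fun b => ConcreteCategory.congr_hom h1 b
  have e2 : ∀ b, δ.hom (i₂.hom b) = b := fun b => ConcreteCategory.congr_hom h2 b
  have hw : ∀ x : A, i₁.hom (f.hom x) = i₂.hom (f.hom x) := fun x => ConcreteCategory.congr_hom h.w x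
  -- the isomorphism with the tensor product
  let e := (CommRingCat.isPushout_tensorProduct A B B).isoIsPushout _ _ h
  have he1 : ∀ b : B, e.hom.hom (b ⊗ₜ[A] 1) = i₁.hom b := fun b =>
    ConcreteCategory.congr_hom ((CommRingCat.isPushout_tensorProduct A B B).inl_isoIsPushout_hom _ _ h) b
  have he2 : ∀ b : B, e.hom.hom (1 ⊗ₜ[A] b) = i₂.hom b := fun b =>
    ConcreteCategory.congr_hom ((CommRingCat.isPushout_tensorProduct A B B).inr_isoIsPushout_hom _ _ h) b
  have he : ∀ b b' : B, e.hom.hom (b ⊗ₜ[A] b') = i₁.hom b * i₂.hom b' := by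
    intro b b'
    rw [← he1, ← he2, ← map_mul, Algebra.TensorProduct.tmul_mul_tmul, mul_one, one_mul]
  let t' : P := e.hom.hom t
  have ht1' : ∀ s : B, i₂.hom s * t' = i₁.hom s * t' := by
    intro s
    have h3 := congrArg e.hom.hom (ht1 s)
    rw [map_mul, map_sub, map_zero, he1, he2, sub_mul, sub_eq_zero] at h3
    exact h3
  have hδ : ∀ z : B ⊗[A] B, δ.hom (e.hom.hom z) = Algebra.TensorProduct.lmul' A z := by
    intro z
    induction z using TensorProduct.induction_on with
    | zero => rw [map_zero, map_zero, map_zero]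
    | tmul b b' => rw [he, map_mul, e1, e2, Algebra.TensorProduct.lmul'_apply_tmul]
    | add x y hx hy => rw [map_add, map_add, map_add, hx, hy]
  have ht2' : δ.hom t' = 1 := (hδ t).trans ht2
  have key : ∀ x : P, x * t' = i₁.hom (δ.hom x) * t' := by
    have h5 : ∀ z : B ⊗[A] B, e.hom.hom z * t' = i₁.hom (δ.hom (e.hom.hom z)) * t' := by
      intro z
      induction z using TensorProduct.induction_on with
      | zero => rw [map_zero, map_zero, map_zero]
      | tmul b b' =>
        rw [he, map_mul, e1, e2, mul_assoc, ht1', map_mul]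
        ring
      | add x y hx hy => rw [map_add, map_add, map_add, add_mul, add_mul, hx, hy]
    intro x
    have h6 : e.hom.hom (e.inv.hom x) = x := ConcreteCategory.congr_hom e.inv_hom_id x
    rw [← h6]
    exact h5 _
  have hz : ∀ x : P, δ.hom x = 0 → x * t' = 0 := fun x hx => by rw [key, hx, map_zero, zero_mul]
  have hε : δ.hom (1 - t') = 0 := by rw [map_sub, map_one, ht2', sub_self]
  refine ⟨1 - t', ?_, fun x => ⟨fun hx => ⟨x, ?_⟩, ?_⟩⟩
  · linear_combination hz _ hε * (-1)
  · linear_combination hz x hx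
  · rintro ⟨y, rfl⟩
    rw [map_mul, hε, zero_mul]

end ring

section cat

variable {R₀ : CommRingCat.{u}} {A : CochainComplex (((Under R₀)ᵒᵖ)ᵒᵖ ⥤ AddCommGrpCat.{w}) ℤ} {w₀ : R₀}

/-- `R ↦ R/(e)` induces a quasi-isomorphism if `e` is an idempotent divisible by `w₀`. -/
def HAdd (A : CochainComplex (((Under R₀)ᵒᵖ)ᵒᵖ ⥤ AddCommGrpCat.{w}) ℤ) (w₀ : R₀) : Prop :=
  ∀ ⦃X Y : (Under R₀)ᵒᵖ⦄ (f : X ⟶ Y) (e : Y.unop.right), e * e = e → el w₀ Y ∣ e →
    Function.Surjective f.unop.right.hom → (∀ x, f.unop.right.hom x = 0 ↔ e ∣ x) → QMap A f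

theorem HAdd.uq (hA : HAdd A w₀) {X Y : (Under R₀)ᵒᵖ} (f : X ⟶ Y) (e : Y.unop.right) (he : e * e = e)
    (hw : el w₀ Y ∣ e) (h1 : Function.Surjective f.unop.right.hom) (h2 : ∀ x, f.unop.right.hom x = 0 ↔ e ∣ x) :
    UQ A f := by
  intro Z' Z s' c b sq
  have hp := (affLike_under R₀).push c s' f b sq
  obtain ⟨h3, h4⟩ := surjective_of_isPushout hp h1
  refine hA s' (b.unop.right.hom e) (by rw [← map_mul, he]) ?_ h3 fun x => ⟨fun hx => ?_, ?_⟩
  · have h5 := map_dvd b.unop.right.hom hw
    rwa [el_map] at h5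
  · have h5 := h4 x hx
    have h6 : (RingHom.ker f.unop.right.hom).map b.unop.right.hom ≤ span {b.unop.right.hom e} := by
      refine map_le_iff_le_comap.2 fun y hy => ?_
      rw [mem_comap, mem_span_singleton]
      exact map_dvd _ ((h2 y).1 (RingHom.mem_ker.1 hy))
    exact mem_span_singleton.1 (h6 h5)
  · rintro ⟨y, rfl⟩
    rw [map_mul]
    have h5 : s'.unop.right.hom (b.unop.right.hom e) = c.unop.right.hom (f.unop.right.hom e) :=
      (ConcreteCategory.congr_hom hp.w e).symm
    rw [h5, (h2 e).2 dvd_rfl, map_zero, zero_mul]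

/-- Cancellation for `UQ A`. -/
theorem uq_of_comp_right {C : Type u} [Category.{v} C] [HasPullbacks C]
    {A : CochainComplex (Cᵒᵖ ⥤ AddCommGrpCat.{w}) ℤ} {X Y Z : C} {g : X ⟶ Y} {h : Y ⟶ Z} (hg : UQ A g)
    (hgh : UQ A (g ≫ h)) : UQ A h := by
  intro W' W s a b sq
  have h1 := IsPullback.of_hasPullback g a
  have h2 : QMap A (pullback.snd g a) := hg _ _ _ h1
  exact QMap.of_comp_right (hgh _ _ _ (h1.paste_vert sq)) h2

/-- Formal reduction. -/
theorem uq_of_diag {C : Type u} [Category.{v} C] [HasPullbacks C]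
    [∀ (n : ℕ) (f : Arrow C), HasWidePullback f.right (fun _ : Fin (n + 1) => f.left) fun _ => f.hom]
    {A : CochainComplex (Cᵒᵖ ⥤ AddCommGrpCat.{w}) ℤ} (hA : BB A) {X Y T₁ : C} (f : X ⟶ Y) (h : T₁ ⟶ Y)
    (hh : UD A h) (i : X ⟶ T₁) (hi : i ≫ h = f) (hiq : UQ A i) (hd : UQ A (pullback.diagonal f)) : UQ A f := by
  have h1 : UQ A (pullback.snd f f) := uq_of_comp_right hd (by
    rw [pullback.diagonal_snd]
    exact uq_of_isIso _)
  refine uq_of_local hA f h hh ?_
  -- the base change of `pullback.snd f h` along `i`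
  have h2 := IsPullback.of_hasPullback (pullback.snd f h) i
  have h3 : IsPullback (pullback.fst (pullback.snd f h) i ≫ pullback.fst f h) (pullback.snd (pullback.snd f h) i) f f := by
    have h4 := h2.paste_horiz (IsPullback.of_hasPullback f h)
    rwa [hi] at h4
  have h5 : UQ A (pullback.snd (pullback.snd f h) i) := by
    have h6 : pullback.snd (pullback.snd f h) i = h3.isoPullback.hom ≫ pullback.snd f f := by
      rw [IsPullback.isoPullback_hom_snd]
    rw [h6]
    exact (uq_of_isIso _).comp h1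
  have h7 : UQ A (pullback.fst (pullback.snd f h) i) := UQ.of_sq h2.flip hiq
  refine uq_of_comp_right h7 ?_
  rw [pullback.condition]
  exact h5.comp hiq

/-- **Etale neighbourhoods.** -/
theorem uq_of_etale (hA : BB A) (hV : ∀ ⦃X Y : (Under R₀)ᵒᵖ⦄ (f : X ⟶ Y), VCov f.unop.right.hom → UD A f)
    (hadd : HAdd A w₀) {X Y : (Under R₀)ᵒᵖ} (f : X ⟶ Y) (hf : f.unop.right.hom.Etale)
    (hm : ModBij (el w₀ Y) f.unop.right.hom) : UQ A f := by
  let C := Y.unop.right
  let C' := X.unop.right
  let a : C := el w₀ Y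
  let φ : C →+* C' := f.unop.right.hom
  let L := Localization.Away a
  let ψ : C →+* C' × L := φ.prod (algebraMap C L)
  let T₁ : (Under R₀)ᵒᵖ := op (Under.mk (Y := CommRingCat.of (C' × L)) (Y.unop.hom ≫ CommRingCat.ofHom ψ))
  let h : T₁ ⟶ Y := (Under.homMk (CommRingCat.ofHom ψ) rfl : Y.unop ⟶ T₁.unop).op
  let i : X ⟶ T₁ := (Under.homMk (CommRingCat.ofHom (RingHom.fst C' L)) (by
    apply CommRingCat.hom_ext
    ext x
    exact congr($(Under.w f.unop) x)) : T₁.unop ⟶ X.unop).op
  have hi : i ≫ h = f := by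
    apply Quiver.Hom.unop_inj
    apply Under.UnderMorphism.ext
    rfl
  have hflat : φ.Flat := by
    let := φ.toAlgebra
    have h1 : Algebra.Etale C C' := hf
    exact (inferInstance : Module.Flat C C')
  have hh : UD A h := hV h (vcov_prod a hflat hm)
  refine uq_of_diag hA f h hh i hi ?_ ?_
  · refine hadd.uq i (0, 1) (by
      change ((0, 1) : C' × L) * (0, 1) = (0, 1)
      rw [Prod.mk_mul_mk, mul_zero, mul_one]) ?_ (fun y => ⟨(y, 0), rfl⟩) fun x => ?_
    · have h1 : el w₀ T₁ = ψ a := rfl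
      rw [h1]
      refine ⟨(0, IsLocalization.Away.invSelf a), ?_⟩
      change ((0, 1) : C' × L) = (φ a, algebraMap C L a) * (0, IsLocalization.Away.invSelf a)
      rw [Prod.mk_mul_mk, mul_zero, IsLocalization.Away.mul_invSelf]
    · constructor
      · intro hx
        refine ⟨x, ?_⟩
        have h1 : x.1 = 0 := hx
        refine Prod.ext ?_ ?_
        · change x.1 = 0 * x.1
          rw [h1, mul_zero]
        · change x.2 = 1 * x.2
          rw [one_mul]
      · rintro ⟨y, rfl⟩
        change (0 : C') * y.1 = 0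
        rw [zero_mul]
  · have hp : IsPushout f.unop.right f.unop.right (pullback.fst f f).unop.right (pullback.snd f f).unop.right :=
      (affLike_under R₀).push _ _ _ _ (IsPullback.of_hasPullback f f)
    have e1 : (pullback.fst f f).unop.right ≫ (pullback.diagonal f).unop.right = 𝟙 _ := by
      have := pullback.diagonal_fst f
      exact congrArg (fun g : X ⟶ X => g.unop.right) this
    have e2 : (pullback.snd f f).unop.right ≫ (pullback.diagonal f).unop.right = 𝟙 _ := by
      have := pullback.diagonal_snd f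
      exact congrArg (fun g : X ⟶ X => g.unop.right) this
    obtain ⟨ε, hε1, hε2⟩ := exists_idem hp hf (pullback.diagonal f).unop.right e1 e2
    refine hadd.uq _ ε hε1 ?_ (fun y => ⟨(pullback.snd f f).unop.right.hom y, ConcreteCategory.congr_hom e2 y⟩) hε2
    obtain ⟨x, z, hz⟩ := exists_dvd_of_isPushout hp (el w₀ Y) hm.surj ε
    have h3 : (pullback.snd f f).unop.right.hom (f.unop.right.hom (el w₀ Y)) = el w₀ (pullback f f) := by
      rw [el_map, el_map]
    have h4 : (pullback.diagonal f).unop.right.hom ((pullback.snd f f).unop.right.hom x) = x :=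
      ConcreteCategory.congr_hom e2 x
    have h5 : (pullback.diagonal f).unop.right.hom ε = 0 := (hε2 ε).2 dvd_rfl
    rw [h3] at hz
    have h6 := congrArg (pullback.diagonal f).unop.right.hom hz
    rw [map_sub, h4, h5, map_mul, el_map] at h6
    -- `x = -w₀ z'`
    refine ⟨z - (pullback.snd f f).unop.right.hom ((pullback.diagonal f).unop.right.hom z), ?_⟩
    have h7 : x = -(el w₀ X * (pullback.diagonal f).unop.right.hom z) := by linear_combination -h6
    have h8 : (pullback.snd f f).unop.right.hom x = -(el w₀ (pullback f f) *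
        (pullback.snd f f).unop.right.hom ((pullback.diagonal f).unop.right.hom z)) := by
      rw [h7, map_neg, map_mul, el_map]
    linear_combination hz + h8

end cat

end K617.EtNbhd
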