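import Groth.Agent.EtDual.K152.Fib
import Groth.Agent.EtDual.K617.EtNbhd
import Groth.Agent.EtDual.K855.HomCmp
import Groth.Agent.HTop.K343.Topo

/-!
# Additivity of the complex with supports (seat 617)

* `existsUnique_glue`: sections of a sheaf on `Over Y` over a disjoint union;
* `hAdd_KF`: `HAdd` for the complex `R ↦ KF e J (Spec R, x)`.
-/

set_option autoImplicit false
set_option backward.isDefEq.respectTransparency false
set_option backward.isDefEq.respectTransparency.types false
set_option linter.unusedSectionVars false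

universe u v w

open CategoryTheory CategoryTheory.Limits Opposite AlgebraicGeometry

namespace K617.AddKF

section glue

variable {K : GrothendieckTopology Scheme.{u}} {Y : Scheme.{u}}

/-- Zariski coverings in the big site over `Y`. -/
theorem mem_over (hK : Scheme.zariskiTopology ≤ K) {V : Over Y} (S : Sieve V)
    (h : ∀ x : V.left, ∃ (W : Over Y) (g : W ⟶ V), S g ∧ IsOpenImmersion g.left ∧ x ∈ Set.range g.left) :
    S ∈ K.over Y V := by
  rw [GrothendieckTopology.mem_over_iff]
  apply hK
  rw [K343.Topo.mem_zariski_iff]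
  intro x
  obtain ⟨W, g, h1, h2, h3⟩ := h x
  refine ⟨W.left, g.left, ?_, h2, h3⟩
  rw [Sieve.overEquiv_iff]
  have h4 : (Over.homMk g.left : Over.mk (g.left ≫ V.hom) ⟶ V) =
      (Over.homMk (𝟙 W.left) (by simp) : Over.mk (g.left ≫ V.hom) ⟶ W) ≫ g := by
    ext
    simp
  rw [h4]
  exact S.downward_closed h1 _

variable (P : Sheaf (K.over Y) AddCommGrpCat.{u + 1})

theorem isSheaf_forget : Presieve.IsSheaf (K.over Y) (P.obj ⋙ forget AddCommGrpCat.{u + 1}) :=
  (isSheaf_iff_isSheaf_of_type _ _).1
    ((Presheaf.isSheaf_iff_isSheaf_forget (K.over Y) P.obj (forget AddCommGrpCat.{u + 1})).1 P.property)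

/-- Sections over the empty scheme. -/
theorem subsingleton_empty (hK : Scheme.zariskiTopology ≤ K) (Z : Over Y) (hZ : IsEmpty Z.left) :
    Subsingleton (P.obj.obj (op Z)) := by
  have h1 := isSheaf_forget P
  have h2 : (⊥ : Sieve Z) ∈ K.over Y Z := mem_over hK _ fun x => (hZ.false x).elim
  refine ⟨fun a b => ?_⟩
  exact (h1 _ h2).isSeparatedFor.ext fun W f hf => hf.elim

theorem existsUnique_glue (hK : Scheme.zariskiTopology ≤ K) {V : Over Y} {V' : Bool → Over Y} (i : ∀ b, V' b ⟶ V)
    (h1 : ∀ b, IsOpenImmersion (i b).left) (hcov : ∀ x : V.left, ∃ b, x ∈ Set.range (i b).left)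
    (hdis : ∀ x : V.left, x ∈ Set.range (i true).left → x ∈ Set.range (i false).left → False)
    (s : ∀ b, P.obj.obj (op (V' b))) : ∃! t : P.obj.obj (op V), ∀ b, P.obj.map (i b).op t = s b := by
  have hs := isSheaf_forget P
  have h2 : Sieve.generate (Presieve.ofArrows V' i) ∈ K.over Y V := by
    refine mem_over hK _ fun x => ?_
    obtain ⟨b, hb⟩ := hcov x
    exact ⟨V' b, i b, Sieve.le_generate _ _ _ (Presieve.ofArrows.mk b), h1 b, hb⟩
  have h3 := hs.isSheafFor _ h2
  have hm : ∀ b, Mono (i b) := fun b => by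
    have := h1 b
    exact Over.mono_of_mono_left _
  refine (Presieve.isSheafFor_arrows_iff _ _).1 h3 s ?_
  have key : ∀ (Z : Over Y) (g : Z ⟶ V' true) (g' : Z ⟶ V' false), g ≫ i true = g' ≫ i false → IsEmpty Z.left := by
    intro Z g g' hg
    refine ⟨fun z => hdis ((g ≫ i true).left z) ⟨g.left z, ?_⟩ ⟨g'.left z, ?_⟩⟩
    · rfl
    · rw [hg]
      rfl
  intro b b' Z g g' hg
  cases b <;> cases b'
  · have := hm false
    rw [(cancel_mono (i false)).1 hg]
  · have h4 := subsingleton_empty P hK Z (key Z g' g hg.symm)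
    exact Subsingleton.elim (α := P.obj.obj (op Z)) _ _
  · have h4 := subsingleton_empty P hK Z (key Z g g' hg)
    exact Subsingleton.elim (α := P.obj.obj (op Z)) _ _
  · have := hm true
    rw [(cancel_mono (i true)).1 hg]

/-- A section vanishing on a Zariski covering vanishes. -/
theorem eq_zero_of_cover (hK : Scheme.zariskiTopology ≤ K) {V : Over Y} (s : P.obj.obj (op V))
    (h : ∀ x : V.left, ∃ (W : Over Y) (g : W ⟶ V), IsOpenImmersion g.left ∧ x ∈ Set.range g.left ∧
      P.obj.map g.op s = 0) : s = 0 := by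
  let S : Sieve V :=
    { arrows := fun W g => P.obj.map g.op s = 0
      downward_closed := by
        intro W W' g hg k
        rw [op_comp, P.obj.map_comp]
        change P.obj.map k.op (P.obj.map g.op s) = 0
        rw [show P.obj.map g.op s = 0 from hg, map_zero] }
  have hS : S ∈ K.over Y V := mem_over hK S fun x => by
    obtain ⟨W, g, h1, h2, h3⟩ := h x
    exact ⟨W, g, h3, h1, h2⟩
  refine (isSheaf_forget P S hS).isSeparatedFor.ext fun W f hf => ?_
  change P.obj.map f.op s = P.obj.map f.op 0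
  rw [map_zero]
  exact hf

end glue

section KF

open K781.Desc K152.Fib K343.Basic K224.BigEx

attribute [local instance] isGrothendieckAbelian_AbK

variable {K : GrothendieckTopology Scheme.{u}} {Y₀ Y : Scheme.{u}} (e : Y₀ ⟶ Y)
  (A : CochainComplex ((Over Y)ᵒᵖ ⥤ AddCommGrpCat.{u + 1}) ℤ)

/-- The inclusion of the sections with support. -/
noncomputable abbrev inc (i : ℤ) (V : Over Y) : ((KF e A).X i).obj (op V) ⟶ (A.X i).obj (op V) :=
  ((kernel.ι (resC e A)).f i).app (op V)

variable {e A}

theorem inc_map (i : ℤ) {V W : Over Y} (g : W ⟶ V) (m : ((KF e A).X i).obj (op V)) :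
    inc e A i W (((KF e A).X i).map g.op m) = (A.X i).map g.op (inc e A i V m) :=
  ConcreteCategory.congr_hom (((kernel.ι (resC e A)).f i).naturality g.op) m

theorem inc_zero (i : ℤ) {V : Over Y} (m : ((KF e A).X i).obj (op V)) :
    (A.X i).map ((cou e).app V).op (inc e A i V m) = 0 := by
  have h1 := congrArg (fun φ => (φ.f i).app (op V)) (kernel.condition (resC e A))
  exact ConcreteCategory.congr_hom h1 m

theorem short_ev (hS : (SK e A).ShortExact) (i : ℤ) (V : Over Y) :
    (((SK e A).map (HomologicalComplex.eval _ (ComplexShape.up ℤ) i)).map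
      ((evaluation _ AddCommGrpCat.{u + 1}).obj (op V))).ShortExact :=
  (hS.map_of_exact (HomologicalComplex.eval _ (ComplexShape.up ℤ) i)).map_of_exact
    ((evaluation _ AddCommGrpCat.{u + 1}).obj (op V))

theorem inc_injective (hS : (SK e A).ShortExact) (i : ℤ) (V : Over Y) : Function.Injective (inc e A i V) :=
  (AddCommGrpCat.mono_iff_injective _).1 (short_ev hS i V).mono_f

theorem exists_inc (hS : (SK e A).ShortExact) (i : ℤ) {V : Over Y} (s : (A.X i).obj (op V))
    (hs : (A.X i).map ((cou e).app V).op s = 0) : ∃ m, inc e A i V m = s :=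
  (ShortComplex.ab_exact_iff _).1 (short_ev hS i V).exact s hs

/-- Naturality of the restriction. -/
theorem cou_nat {i : ℤ} {V W : Over Y} (g : W ⟶ V) (s : (A.X i).obj (op V)) :
    (A.X i).map ((E e).map g).op ((A.X i).map ((cou e).app V).op s) =
      (A.X i).map ((cou e).app W).op ((A.X i).map g.op s) := by
  have h1 : (A.X i).map ((cou e).app V).op ≫ (A.X i).map ((E e).map g).op =
      (A.X i).map g.op ≫ (A.X i).map ((cou e).app W).op := by
    rw [← (A.X i).map_comp, ← (A.X i).map_comp, ← op_comp, ← op_comp, (cou e).naturality g]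
    rfl
  exact ConcreteCategory.congr_hom h1 s

theorem isPullback_E {V V' : Over Y} (f : V' ⟶ V) :
    IsPullback (pullback.fst V'.hom e) ((E e).map f).left f.left (pullback.fst V.hom e) := by
  have t : IsPullback (pullback.snd V.hom e) (pullback.fst V.hom e) e V.hom :=
    (IsPullback.of_hasPullback V.hom e).flip
  have e1 : ((E e).map f).left ≫ pullback.snd V.hom e = pullback.snd V'.hom e :=
    pullback.lift_snd _ _ _
  have e2 : ((E e).map f).left ≫ pullback.fst V.hom e = pullback.fst V'.hom e ≫ f.left :=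
    pullback.lift_fst _ _ _
  have s : IsPullback (((E e).map f).left ≫ pullback.snd V.hom e) (pullback.fst V'.hom e) e
      (f.left ≫ V.hom) := by
    rw [e1, Over.w]
    exact (IsPullback.of_hasPullback V'.hom e).flip
  exact (IsPullback.of_right s e2 t).flip

/-- If `V` maps to `Y₀`, there are no sections with support. -/
theorem eq_zero_of_lift (i : ℤ) {V : Over Y} (l : V.left ⟶ Y₀) (hl : l ≫ e = V.hom) (m : (A.X i).obj (op V))
    (hm : (A.X i).map ((cou e).app V).op m = 0) : m = 0 := by
  let σ : V ⟶ (E e).obj V := Over.homMk (pullback.lift (𝟙 _) l (by rw [hl, Category.id_comp])) (by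
    change pullback.lift (𝟙 _) l _ ≫ pullback.snd V.hom e ≫ e = V.hom
    rw [pullback.lift_snd_assoc, hl])
  have h1 : σ ≫ (cou e).app V = 𝟙 V := by
    ext
    change pullback.lift (𝟙 _) l _ ≫ ((cou e).app V).left = 𝟙 _
    rw [cou_left]
    exact pullback.lift_fst _ _ _
  have h2 : (A.X i).map σ.op ((A.X i).map ((cou e).app V).op m) = m := by
    have h3 : (A.X i).map ((cou e).app V).op ≫ (A.X i).map σ.op = 𝟙 _ := by
      rw [← (A.X i).map_comp, ← op_comp, h1]
      exact (A.X i).map_id _
    exact ConcreteCategory.congr_hom h3 m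
  rw [← h2, hm, map_zero]

variable (e)

/-- **Additivity.** -/
theorem bijective_map (hK : Scheme.zariskiTopology ≤ K) (I : CochainComplex (AbK K Y) ℤ)
    (hS : (SK e (PC I)).ShortExact) (i : ℤ) {V : Over Y} {V' : Bool → Over Y} (f : ∀ b, V' b ⟶ V)
    (h1 : ∀ b, IsOpenImmersion (f b).left) (hcov : ∀ x : V.left, ∃ b, x ∈ Set.range (f b).left)
    (hdis : ∀ x : V.left, x ∈ Set.range (f true).left → x ∈ Set.range (f false).left → False)
    (l : (V' false).left ⟶ Y₀) (hl : l ≫ e = (V' false).hom) :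
    Function.Bijective (((KF e (PC I)).X i).map (f true).op) := by
  let P : Sheaf (K.over Y) AddCommGrpCat.{u + 1} := I.X i
  constructor
  · rw [injective_iff_map_eq_zero]
    intro m hm
    apply inc_injective hS i V
    rw [map_zero]
    have h2 : ∀ b, P.obj.map (f b).op (inc e (PC I) i V m) = 0 := by
      intro b
      cases b
      · refine eq_zero_of_lift (A := PC I) i l hl _ ?_
        have h3 := cou_nat (A := PC I) (e := e) (i := i) (f false) (inc e (PC I) i V m)
        rw [inc_zero, map_zero] at h3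
        exact h3.symm
      · have h3 := inc_map (A := PC I) (e := e) i (f true) m
        rw [hm, map_zero] at h3
        exact h3.symm
    refine eq_zero_of_cover P hK _ fun x => ?_
    obtain ⟨b, hb⟩ := hcov x
    exact ⟨V' b, f b, h1 b, hb, h2 b⟩
  · intro m₁
    obtain ⟨t, ht, -⟩ := existsUnique_glue P hK f h1 hcov hdis (fun b => match b with
      | true => inc e (PC I) i (V' true) m₁
      | false => 0)
    have ht1 : P.obj.map (f true).op t = inc e (PC I) i (V' true) m₁ := ht true
    have ht2 : P.obj.map (f false).op t = 0 := ht false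
    obtain ⟨m, hm⟩ := exists_inc hS i (V := V) t (by
      refine eq_zero_of_cover P hK _ fun z => ?_
      obtain ⟨b, y, hy⟩ := hcov (pullback.fst V.hom e z)
      have sq := isPullback_E (e := e) (f b)
      obtain ⟨z', -, hz'⟩ := Scheme.exists_preimage_of_isPullback sq y z hy
      have := h1 b
      refine ⟨(E e).obj (V' b), (E e).map (f b), ?_, ⟨z', hz'⟩, ?_⟩
      · exact MorphismProperty.of_isPullback (P := @IsOpenImmersion) sq (h1 b)
      · have h3 := cou_nat (A := PC I) (e := e) (i := i) (f b) t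
        refine h3.trans ?_
        cases b
        · change P.obj.map ((cou e).app (V' false)).op (P.obj.map (f false).op t) = 0
          rw [ht2, map_zero]
        · change P.obj.map ((cou e).app (V' true)).op (P.obj.map (f true).op t) = 0
          rw [ht1]
          exact inc_zero (A := PC I) i m₁)
    refine ⟨m, inc_injective hS i _ ?_⟩
    rw [inc_map, hm]
    exact ht1

section pt

open K617.EtNbhd K617.UDQuasi K933.PerfCat

variable {d : ℕ} {Y₀ : Scheme.{u}} (e : Y₀ ⟶ Spec (Pd.{u} d)) [IsOpenImmersion e]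

/-- Lifting to the complement of `V(X)`. -/
theorem exists_lift_unit (he : ∀ q : Spec (Pd.{u} d), (∃ i, (MvPolynomial.X i) ∉ q.asIdeal) → q ∈ Set.range e)
    {R₀ : CommRingCat.{u}} (x : Fin d → R₀) (w₀ : R₀) (hw : w₀ ∈ (Ideal.span (Set.range x)).radical)
    (Z : (Under R₀)ᵒᵖ) (hZ : IsUnit (el w₀ Z)) :
    ∃ l : ((ptO x).obj Z).left ⟶ Y₀, l ≫ e = ((ptO x).obj Z).hom := by
  refine ⟨IsOpenImmersion.lift e ((ptO x).obj Z).hom ?_, IsOpenImmersion.lift_fac _ _ _⟩
  rintro _ ⟨P, rfl⟩
  apply he
  by_contra hcon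
  push Not at hcon
  obtain ⟨n, hn⟩ := hw
  have h1 : (Ideal.span (Set.range x)) ≤ Ideal.comap Z.unop.hom.hom P.asIdeal := by
    rw [Ideal.span_le]
    rintro _ ⟨i, rfl⟩
    have h2 := hcon i
    have h3 : (evP fun i => Z.unop.hom.hom (x i)) (MvPolynomial.X i) ∈ P.asIdeal := h2
    rw [evP_X] at h3
    exact h3
  let P' : PrimeSpectrum Z.unop.right := P
  have h2 : (Z.unop.hom.hom w₀) ^ n ∈ P'.asIdeal := by
    rw [← map_pow]
    exact h1 hn
  have h3 := P'.2.mem_of_pow_mem _ h2
  exact P'.2.ne_top (Ideal.eq_top_of_isUnit_mem _ h3 hZ)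

theorem isOpenImmersion_of_idem {R S : CommRingCat.{u}} (f : R ⟶ S) (ε : R) (hε : ε * ε = ε)
    (h1 : Function.Surjective f.hom) (h2 : ∀ x, f.hom x = 0 ↔ ε ∣ x) : IsOpenImmersion (Spec.map f) := by
  refine (isOpenImmersion_SpecMap_iff_of_surjective f h1).2 ⟨ε, hε, ?_⟩
  ext x
  rw [RingHom.mem_ker, h2, Ideal.mem_span_singleton]

theorem mem_range_of_idem {R S : CommRingCat.{u}} (f : R ⟶ S) (ε : R) (h1 : Function.Surjective f.hom)
    (h2 : ∀ x, f.hom x = 0 ↔ ε ∣ x) (P : Spec R) : P ∈ Set.range (Spec.map f) ↔ ε ∈ P.asIdeal := by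
  have h3 : Set.range (Spec.map f) = PrimeSpectrum.zeroLocus (RingHom.ker f.hom : Set R) :=
    range_comap_of_surjective _ f.hom h1
  have h4 : RingHom.ker f.hom = Ideal.span {ε} := by
    ext x
    rw [RingHom.mem_ker, h2, Ideal.mem_span_singleton]
  rw [h3, h4, PrimeSpectrum.zeroLocus_span, PrimeSpectrum.mem_zeroLocus, Set.singleton_subset_iff]
  rfl

variable {K : GrothendieckTopology Scheme.{u}}

/-- **`HAdd` for the complex with supports.** -/
theorem hAdd_KF' (hK : Scheme.zariskiTopology ≤ K)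
    (he : ∀ q : Spec (Pd.{u} d), (∃ i, (MvPolynomial.X i) ∉ q.asIdeal) → q ∈ Set.range e)
    (I : CochainComplex (AbK K (Spec (Pd.{u} d))) ℤ) (hS : (SK e (PC I)).ShortExact)
    {R₀ : CommRingCat.{u}} (x : Fin d → R₀) (w₀ : R₀) (hw : w₀ ∈ (Ideal.span (Set.range x)).radical) :
    HAdd (rs (ptO x).op (KF e (PC I))) w₀ := by
  intro X Y f ε hε hwε h1 h2
  let S := Y.unop.right ⧸ Ideal.span {1 - ε}
  have hε' : (1 - ε) * (1 - ε) = 1 - ε := by linear_combination hε
  let Z : (Under R₀)ᵒᵖ := op (Under.mk (Y := CommRingCat.of S)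
    (Y.unop.hom ≫ CommRingCat.ofHom (Ideal.Quotient.mk (Ideal.span {1 - ε}))))
  let g : Z ⟶ Y := (Under.homMk (CommRingCat.ofHom (Ideal.Quotient.mk (Ideal.span {1 - ε}))) rfl :
    Y.unop ⟶ Z.unop).op
  have hg1 : Function.Surjective g.unop.right.hom := Ideal.Quotient.mk_surjective
  have hg2 : ∀ x, g.unop.right.hom x = 0 ↔ (1 - ε) ∣ x := fun x => by
    rw [← Ideal.mem_span_singleton]
    exact Ideal.Quotient.eq_zero_iff_mem
  have hZ : IsUnit (el w₀ Z) := by
    obtain ⟨c, hc⟩ := hwε
    refine IsUnit.of_mul_eq_one (g.unop.right.hom c) ?_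
    rw [← el_map w₀ g, ← map_mul, ← hc]
    have h3 : g.unop.right.hom (1 - ε) = 0 := (hg2 _).2 dvd_rfl
    rw [map_sub, map_one, sub_eq_zero] at h3
    exact h3.symm
  obtain ⟨l, hl⟩ := exists_lift_unit e he x w₀ hw Z hZ
  let V' : Bool → Over (Spec (Pd.{u} d)) := fun b => match b with
    | true => (ptO x).obj X
    | false => (ptO x).obj Z
  let F : ∀ b, V' b ⟶ (ptO x).obj Y := fun b => match b with
    | true => (ptO x).map f
    | false => (ptO x).map g
  have key := fun i => bijective_map e hK I hS i F (fun b => match b with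
      | true => isOpenImmersion_of_idem f.unop.right ε hε h1 h2
      | false => isOpenImmersion_of_idem g.unop.right (1 - ε) hε' hg1 hg2) (fun P => by
    have h3 : ε * (1 - ε) = 0 := by linear_combination -hε
    have h4 : ε * (1 - ε) ∈ P.asIdeal := by
      rw [h3]
      exact P.asIdeal.zero_mem
    rcases P.2.mem_or_mem h4 with h5 | h5
    · exact ⟨true, (mem_range_of_idem f.unop.right ε h1 h2 P).2 h5⟩
    · exact ⟨false, (mem_range_of_idem g.unop.right (1 - ε) hg1 hg2 P).2 h5⟩) (fun P hP1 hP2 => by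
    have h5 := (mem_range_of_idem f.unop.right ε h1 h2 P).1 hP1
    have h6 := (mem_range_of_idem g.unop.right (1 - ε) hg1 hg2 P).1 hP2
    have h7 := P.asIdeal.add_mem h5 h6
    rw [add_sub_cancel] at h7
    exact P.2.ne_top ((Ideal.eq_top_iff_one _).2 h7)) l hl
  unfold QMap
  have h3 : IsIso ((NatTrans.mapHomologicalComplex ((evaluation _ AddCommGrpCat.{u + 1}).map f.op)
      (ComplexShape.up ℤ)).app (rs (ptO x).op (KF e (PC I)))) := by
    have : ∀ i, IsIso (((NatTrans.mapHomologicalComplex ((evaluation _ AddCommGrpCat.{u + 1}).map f.op)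
        (ComplexShape.up ℤ)).app (rs (ptO x).op (KF e (PC I)))).f i) := fun i =>
      (ConcreteCategory.isIso_iff_bijective _).2 (key i)
    exact HomologicalComplex.Hom.isIso_of_components _
  infer_instance

open K855.HomCmp in
/-- **`HAdd` for the complex of a `Good` topology.** -/
theorem hAdd_KF [Good K]
    (he : ∀ q : Spec (Pd.{u} d), (∃ i, (MvPolynomial.X i) ∉ q.asIdeal) → q ∈ Set.range e)
    {G : AbK K (Spec (Pd.{u} d))} (J : InjectiveResolution G) {R₀ : CommRingCat.{u}} (x : Fin d → R₀) (w₀ : R₀)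
    (hw : w₀ ∈ (Ideal.span (Set.range x)).radical) : HAdd (rs (ptO x).op (KF e (psh J))) w₀ :=
  hAdd_KF' e (Scheme.zariskiTopology_le_etaleTopology.trans Good.le) he J.cochainComplex
    (shortExact_SK e J.cochainComplex fun _ => inferInstance) x w₀ hw

end pt

end KF

end K617.AddKF
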