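import Groth.Prelude.Def_Curves
import Mathlib.RingTheory.Valuation.ValuationRing
import Mathlib.RingTheory.Localization.Integral
import Mathlib.FieldTheory.IsAlgClosed.Basic
import Mathlib.RingTheory.Polynomial.Quotient
import Mathlib.RingTheory.LocalRing.Quotient
import Mathlib.RingTheory.IntegralClosure.IntegrallyClosed

/-!
# Absolutely integrally closed valuation rings: basic closure properties (seat 617)

* `isAIC_of_surjective`, `isAIC_of_isLocalization`: quotients and localizations of rings in which monic polynomials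
  have roots have the same property;
* `exists_multiset`: monic polynomials over such a ring are products of linear factors;
* `isAlgClosed_fractionRing`, `isAIC_of_isAlgClosed`: a normal domain is a.i.c. iff its fraction field is
  algebraically closed;
* `valuationRing_quotient`, `valuationRing_of_isLocalization`;
* `iInter_pow`: for `w` a non-unit of a valuation ring the ideal `⋂ (w ^ n)` is prime.
-/

set_option autoImplicit false
universe u v

open Polynomial

namespace K617.Aic

open Curves

section Ring

variable {V : Type u} [CommRing V] {W : Type v} [CommRing W]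

theorem isAIC_of_surjective (φ : V →+* W) (hφ : Function.Surjective φ) (h : IsAIC V) : IsAIC W := by
  intro f hf hd
  have hl : f ∈ Polynomial.lifts φ := by
    rw [Polynomial.lifts_iff_coeff_lifts]
    intro n
    exact hφ _
  nontriviality W
  obtain ⟨g, hg, hgd, hgm⟩ := Polynomial.lifts_and_natDegree_eq_and_monic hl hf
  obtain ⟨r, hr⟩ := h g hgm (by rw [hgd]; exact hd)
  refine ⟨φ r, ?_⟩
  rw [← hg, Polynomial.eval_map, Polynomial.eval₂_at_apply, hr, map_zero]

theorem isAIC_of_ringEquiv (e : V ≃+* W) (h : IsAIC V) : IsAIC W :=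
  isAIC_of_surjective (e : V →+* W) e.surjective h

/-- A monic polynomial over an absolutely integrally closed ring is a product of linear factors. -/
theorem exists_multiset [Nontrivial V] (h : IsAIC V) : ∀ (n : ℕ) (f : V[X]), f.Monic → f.natDegree = n →
    ∃ s : Multiset V, Multiset.card s = n ∧ f = (s.map fun r => X - C r).prod := by
  intro n
  induction n with
  | zero =>
    intro f hf hd
    exact ⟨0, rfl, by simpa using Polynomial.eq_one_of_monic_natDegree_zero hf hd⟩
  | succ n ih =>
    intro f hf hd
    obtain ⟨r, hr⟩ := h f hf (by omega)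
    obtain ⟨g, hg⟩ : X - C r ∣ f := Polynomial.dvd_iff_isRoot.2 hr
    have hgm : g.Monic := (monic_X_sub_C r).of_mul_monic_left (hg ▸ hf)
    have hgd : g.natDegree = n := by
      have h1 := (monic_X_sub_C r).natDegree_mul hgm
      rw [← hg, hd, natDegree_X_sub_C] at h1
      omega
    obtain ⟨s, hs, hs'⟩ := ih g hgm hgd
    exact ⟨r ::ₘ s, by simp [hs], by rw [Multiset.map_cons, Multiset.prod_cons, ← hs', hg]⟩

theorem eval_eq_prod (s : Multiset V) (x : V) :
    ((s.map fun r => X - C r).prod).eval x = (s.map fun r => x - r).prod := by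
  rw [Polynomial.eval_multiset_prod, Multiset.map_map]
  congr 1
  refine Multiset.map_congr rfl fun r _ => by simp

/-- Localizations of absolutely integrally closed rings are absolutely integrally closed. -/
theorem isAIC_of_isLocalization (M : Submonoid V) [Algebra V W] [IsLocalization M W] (h : IsAIC V) :
    IsAIC W := by
  intro f hf hd
  nontriviality W
  have hVn : Nontrivial V := (algebraMap V W).domain_nontrivial
  -- the polynomial `b ^ n f (X / b)` has coefficients in `V`
  obtain ⟨b, hb, hbc⟩ : ∃ b ∈ M, ∀ i, ∃ a : V, algebraMap V W a = algebraMap V W b * f.coeff i := by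
    obtain ⟨b, hb, hbf⟩ := IsLocalization.integerNormalization_spec M f
    refine ⟨b, hb, fun i => ⟨(IsLocalization.integerNormalization M f).coeff i, ?_⟩⟩
    rw [← Polynomial.coeff_map, hbf, Polynomial.coeff_smul, Algebra.smul_def]
  choose a ha using hbc
  set n := f.natDegree with hn
  let g : V[X] := X ^ n + ∑ i ∈ Finset.range n, C (a i * b ^ (n - 1 - i)) * X ^ i
  have hgdeg : (∑ i ∈ Finset.range n, C (a i * b ^ (n - 1 - i)) * X ^ i : V[X]).degree < n := by
    refine Polynomial.mem_degreeLT.1 (Submodule.sum_mem _ fun i hi => Polynomial.mem_degreeLT.2 ?_)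
    exact (Polynomial.degree_C_mul_X_pow_le _ _).trans_lt (by exact_mod_cast Finset.mem_range.1 hi)
  have hgm : g.Monic := Polynomial.monic_X_pow_add hgdeg
  have hgn : g.natDegree = n := by
    refine Polynomial.natDegree_eq_of_degree_eq_some ?_
    rw [Polynomial.degree_add_eq_left_of_degree_lt (by rwa [Polynomial.degree_X_pow]), Polynomial.degree_X_pow]
  obtain ⟨r, hr⟩ := h g hgm (by omega)
  have hbu : IsUnit (algebraMap V W b) := IsLocalization.map_units W ⟨b, hb⟩
  obtain ⟨c, hc⟩ := hbu.exists_right_inv
  refine ⟨algebraMap V W r * c, ?_⟩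
  have hr' : (algebraMap V W r) ^ n + ∑ i ∈ Finset.range n,
      algebraMap V W (a i) * algebraMap V W b ^ (n - 1 - i) * algebraMap V W r ^ i = 0 := by
    have h1 := congrArg (algebraMap V W) hr
    simpa [g, Polynomial.eval_finsetSum, map_sum] using h1
  have h2 : algebraMap V W b ^ n * f.eval (algebraMap V W r * c) = 0 := by
    rw [Polynomial.eval_eq_sum_range, ← hn, Finset.sum_range_succ, mul_add, Finset.mul_sum, add_comm]
    rw [← hr']
    congr 1
    · rw [hf.coeff_natDegree, one_mul, mul_pow, ← mul_assoc, mul_comm (algebraMap V W b ^ n), mul_assoc, ← mul_pow, hc, one_pow,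
        mul_one]
    · refine Finset.sum_congr rfl fun i hi => ?_
      have hi' := Finset.mem_range.1 hi
      rw [ha i, mul_pow]
      obtain ⟨j, hj⟩ : ∃ j, n = i + 1 + j := ⟨n - (i + 1), by omega⟩
      have h3 : n - 1 - i = j := by omega
      rw [h3, hj, pow_add, pow_add, pow_one]
      have h4 : (algebraMap V W b) ^ i * c ^ i = 1 := by rw [← mul_pow, hc, one_pow]
      linear_combination (algebraMap V W b * algebraMap V W b ^ j * f.coeff i * algebraMap V W r ^ i) * h4
  exact (hbu.pow n).mul_right_eq_zero.1 h2

end Ring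

section Domain

variable {V : Type u} [CommRing V]

theorem isAlgClosed_of_isAIC (K : Type v) [Field K] [Algebra V K] [IsFractionRing V K] (h : IsAIC V) :
    IsAlgClosed K := by
  refine IsAlgClosed.of_exists_root K fun p hp hirr => ?_
  have h1 : IsAIC K := isAIC_of_isLocalization (nonZeroDivisors V) h
  exact h1 p hp (Polynomial.natDegree_pos_iff_degree_pos.2 (Polynomial.degree_pos_of_irreducible hirr))

theorem isAIC_quotient (p : Ideal V) (h : IsAIC V) : IsAIC (V ⧸ p) :=
  isAIC_of_surjective (Ideal.Quotient.mk p) Ideal.Quotient.mk_surjective h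

/-- `w ^ n ∣ x` for all `n`. -/
def sepIdeal (w : V) : Ideal V := ⨅ n : ℕ, Ideal.span {w ^ n}

theorem mem_sepIdeal {w x : V} : x ∈ sepIdeal w ↔ ∀ n, w ^ n ∣ x := by
  simp [sepIdeal, Ideal.mem_span_singleton, Submodule.mem_iInf]

theorem isAIC_of_isAlgClosed (K : Type v) [Field K] [Algebra V K] [IsFractionRing V K] [IsAlgClosed K]
    [IsIntegrallyClosed V] : IsAIC V := by
  intro f hf hd
  have hinj : Function.Injective (algebraMap V K) := IsFractionRing.injective V K
  obtain ⟨x, hx⟩ := IsAlgClosed.exists_root (f.map (algebraMap V K)) (by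
    rw [hf.degree_map]
    exact fun h0 => by
      have := Polynomial.natDegree_pos_iff_degree_pos.1 hd
      rw [h0] at this
      exact lt_irrefl _ this)
  have hint : IsIntegral V x := ⟨f, hf, by rwa [Polynomial.IsRoot.def, Polynomial.eval_map] at hx⟩
  obtain ⟨r, rfl⟩ := IsIntegrallyClosed.isIntegral_iff.1 hint
  refine ⟨r, hinj ?_⟩
  rw [map_zero, ← Polynomial.eval₂_at_apply, ← Polynomial.eval_map]
  exact hx

variable [IsDomain V] [ValuationRing V]

theorem valuationRing_quotient (p : Ideal V) [p.IsPrime] : ValuationRing (V ⧸ p) :=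
  (Ideal.Quotient.mk_surjective (I := p)).valuationRing (Ideal.Quotient.mk p)

theorem valuationRing_of_isLocalization (M : Submonoid V) (W : Type v) [CommRing W] [IsDomain W] [Algebra V W]
    [IsLocalization M W] : ValuationRing W := by
  rw [ValuationRing.iff_dvd_total]
  refine ⟨fun x y => ?_⟩
  obtain ⟨a, s, rfl⟩ := IsLocalization.exists_mk'_eq M x
  obtain ⟨b, t, rfl⟩ := IsLocalization.exists_mk'_eq M y
  have key : ∀ (a b : V) (s t : M), a ∣ b → IsLocalization.mk' W a s ∣ IsLocalization.mk' W b t := by
    rintro a _ s t ⟨c, rfl⟩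
    refine ⟨IsLocalization.mk' W (c * s) t, ?_⟩
    rw [← IsLocalization.mk'_mul, IsLocalization.mk'_eq_iff_eq]
    push_cast
    ring_nf
  rcases ValuationRing.dvd_total a b with h | h
  · exact Or.inl (key a b s t h)
  · exact Or.inr (key b a t s h)

theorem isPrime_sepIdeal {w : V} (hw : ¬ IsUnit w) : (sepIdeal w).IsPrime := by
  refine ⟨fun h => hw ?_, fun {x y} hxy => ?_⟩
  · have h1 := mem_sepIdeal.1 ((Ideal.eq_top_iff_one _).1 h) 1
    rw [pow_one] at h1
    exact isUnit_of_dvd_one h1
  · by_contra hcon
    rw [not_or, mem_sepIdeal, mem_sepIdeal, not_forall, not_forall] at hcon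
    obtain ⟨⟨a, ha⟩, ⟨b, hb⟩⟩ := hcon
    obtain ⟨s, hs⟩ := (ValuationRing.dvd_total (w ^ a) x).resolve_left ha
    obtain ⟨t, ht⟩ := (ValuationRing.dvd_total (w ^ b) y).resolve_left hb
    obtain ⟨z, hz⟩ := mem_sepIdeal.1 hxy (a + b + 1)
    have h1 : w ^ (a + b) * (1 - w * z * s * t) = 0 := by
      have : w ^ (a + b) = (x * s) * (y * t) := by rw [pow_add, hs, ht]
      have h2 : (x * s) * (y * t) = w ^ (a + b + 1) * z * s * t := by rw [← hz]; ring
      rw [mul_sub, mul_one]
      nth_rewrite 1 [this]
      rw [h2]
      ring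
    rcases mul_eq_zero.1 h1 with h | h
    · have hw0 : w = 0 := eq_zero_of_pow_eq_zero h
      have : x * y = 0 := by rw [hz, hw0]; ring
      rcases mul_eq_zero.1 this with h | h
      · exact ha (h ▸ dvd_zero _)
      · exact hb (h ▸ dvd_zero _)
    · refine hw (isUnit_of_dvd_one ⟨z * s * t, ?_⟩)
      linear_combination h

end Domain

end K617.Aic
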