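import Groth.Agent.EtDual.K617.Aic
import Mathlib.RingTheory.AdicCompletion.Completeness
import Mathlib.RingTheory.AdicCompletion.RingHom
import Mathlib.RingTheory.AdicCompletion.LocalRing

/-!
# The `w`-adic completion of an absolutely integrally closed valuation ring (seat 617)

`IsCompl w φ`: the ring map `φ : V →+* C` is a `w`-adic completion (`C` is `φ w`-adically complete and
`V / w ^ n → C / w ^ n` is bijective for all `n`), cf. `isCompl_adicCompletion`, `IsCompl.exists_lift`.

For `V` a valuation domain and `w` a non-unit: `C` is a valuation domain (`IsCompl.isDomain`,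
`IsCompl.valuationRing`), `ker φ = ⋂ w ^ n` (`IsCompl.map_eq_zero_iff`), `φ` is local, every nonzero element of `C` is
a unit times an element of `V`; if moreover `V` is absolutely integrally closed then so is `C` (`IsCompl.isAIC`).
-/

set_option autoImplicit false
universe u v w'

open Polynomial

namespace K617.Aic

open Curves

variable {V : Type u} [CommRing V] {C : Type v} [CommRing C]

/-- `φ : V →+* C` is a `w`-adic completion. -/
structure IsCompl (w : V) (φ : V →+* C) : Prop where
  complete : IsAdicComplete (Ideal.span {φ w}) C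
  inj : ∀ (n : ℕ) (x : V), φ w ^ n ∣ φ x → w ^ n ∣ x
  surj : ∀ (n : ℕ) (c : C), ∃ x : V, φ w ^ n ∣ c - φ x

theorem smodEq_span_pow_iff (a x y : C) (n : ℕ) :
    x ≡ y [SMOD (Ideal.span {a} ^ n • ⊤ : Submodule C C)] ↔ a ^ n ∣ x - y := by
  rw [SModEq.sub_mem, smul_eq_mul, Ideal.mul_top, Ideal.span_singleton_pow, Ideal.mem_span_singleton]

theorem isCompl_of_bijective (w : V) (φ : V →+* C) (hφ : Function.Bijective φ)
    (h : IsAdicComplete (Ideal.span {φ w}) C) : IsCompl w φ where
  complete := h
  inj n x hx := by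
    obtain ⟨c, hc⟩ := hx
    obtain ⟨y, rfl⟩ := hφ.2 c
    exact ⟨y, hφ.1 (by rw [hc, map_mul, map_pow])⟩
  surj n c := by
    obtain ⟨y, rfl⟩ := hφ.2 c
    exact ⟨y, by simp⟩

/-- The adic completion is a completion. -/
theorem isCompl_adicCompletion (w : V) :
    IsCompl w (algebraMap V (AdicCompletion (Ideal.span {w}) V)) := by
  set I : Ideal V := Ideal.span {w} with hI
  have hfg : I.FG := ⟨{w}, by simp [hI]⟩
  have hmap : I.map (algebraMap V (AdicCompletion I V)) = Ideal.span {algebraMap V (AdicCompletion I V) w} := by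
    rw [hI, Ideal.map_span, Set.image_singleton]
  have hker : ∀ (n : ℕ) (c : AdicCompletion I V), AdicCompletion.evalₐ I n c = 0 ↔
      algebraMap V (AdicCompletion I V) w ^ n ∣ c := by
    intro n c
    have h1 : c ∈ (I ^ n • ⊤ : Submodule V (AdicCompletion I V)) ↔ c ∈ (AdicCompletion.eval I V n).ker := by
      rw [AdicCompletion.pow_smul_top_eq_ker_eval hfg]
    have h2 : c ∈ (AdicCompletion.eval I V n).ker ↔ AdicCompletion.evalₐ I n c = 0 := by
      rw [LinearMap.mem_ker]
      constructor
      · intro h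
        rw [← AdicCompletion.factor_eval_eq_evalₐ I c (by rw [smul_eq_mul, Ideal.mul_top]), h, map_zero]
      · intro h
        rw [← AdicCompletion.factor_evalₐ_eq_eval I c (by rw [smul_eq_mul, Ideal.mul_top]), h, map_zero]
    have hIn : I ^ n = Ideal.span {w ^ n} := by rw [hI, Ideal.span_singleton_pow]
    rw [← h2, ← h1, hIn, Submodule.ideal_span_singleton_smul, Submodule.mem_smul_pointwise_iff_exists]
    constructor
    · rintro ⟨b, -, rfl⟩
      exact ⟨b, by rw [Algebra.smul_def, map_pow]⟩
    · rintro ⟨b, rfl⟩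
      exact ⟨b, trivial, by rw [Algebra.smul_def, map_pow]⟩
  refine ⟨hmap ▸ AdicCompletion.isAdicComplete_self I hfg, fun n x hx => ?_, fun n c => ?_⟩
  · have h1 := (hker n _).2 hx
    rw [AlgHom.commutes, Ideal.Quotient.algebraMap_eq, Ideal.Quotient.eq_zero_iff_mem, hI,
      Ideal.span_singleton_pow, Ideal.mem_span_singleton] at h1
    exact h1
  · obtain ⟨x, hx⟩ := Ideal.Quotient.mk_surjective (AdicCompletion.evalₐ I n c)
    refine ⟨x, (hker n _).1 ?_⟩
    rw [map_sub, AlgHom.commutes, Ideal.Quotient.algebraMap_eq, hx, sub_self]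

namespace IsCompl

variable {w : V} {φ : V →+* C}

theorem isUnit_one_add (h : IsCompl w φ) (c : C) : IsUnit (1 + φ w * c) := by
  have := h.complete
  have h1 : φ w ∈ (⊥ : Ideal C).jacobson :=
    IsAdicComplete.le_jacobson_bot (Ideal.span {φ w}) (Ideal.mem_span_singleton_self _)
  have h2 := Ideal.mem_jacobson_bot.1 h1 c
  rwa [add_comm] at h2

theorem eq_zero_of_forall (h : IsCompl w φ) {c : C} (hc : ∀ n, φ w ^ n ∣ c) : c = 0 := by
  have := h.complete
  exact IsHausdorff.haus (I := Ideal.span {φ w}) (inferInstance) c fun n => by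
    rw [smodEq_span_pow_iff, sub_zero]
    exact hc n

theorem map_eq_zero_iff (h : IsCompl w φ) {x : V} : φ x = 0 ↔ ∀ n, w ^ n ∣ x := by
  constructor
  · intro hx n
    exact h.inj n x (by rw [hx]; exact dvd_zero _)
  · intro hx
    refine h.eq_zero_of_forall fun n => ?_
    rw [← map_pow]
    exact map_dvd φ (hx n)

/-- Completeness: Cauchy sequences converge. -/
theorem exists_limit (h : IsCompl w φ) (c : ℕ → C) (hc : ∀ n, φ w ^ n ∣ c (n + 1) - c n) :
    ∃ l : C, ∀ n, φ w ^ n ∣ l - c n := by
  have := h.complete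
  have hc' : ∀ {m n : ℕ}, m ≤ n → φ w ^ m ∣ c n - c m := by
    intro m n hmn
    induction n, hmn using Nat.le_induction with
    | base => simp
    | succ n hmn ih =>
      have : c (n + 1) - c m = (c (n + 1) - c n) + (c n - c m) := by ring
      rw [this]
      exact dvd_add ((pow_dvd_pow _ hmn).trans (hc n)) ih
  obtain ⟨l, hl⟩ := IsPrecomplete.prec (I := Ideal.span {φ w}) (M := C) inferInstance (f := c) fun {m n} hmn => by
    rw [smodEq_span_pow_iff]
    rw [← neg_sub]
    exact (dvd_neg).2 (hc' hmn)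
  refine ⟨l, fun n => ?_⟩
  have := (smodEq_span_pow_iff (φ w) (c n) l n).1 (hl n)
  rw [← neg_sub]
  exact (dvd_neg).2 this

theorem isLocalHom (h : IsCompl w φ) (hw : w ∈ (⊥ : Ideal V).jacobson) : IsLocalHom φ := by
  refine ⟨fun x hx => ?_⟩
  obtain ⟨c, hc⟩ := hx.exists_right_inv
  obtain ⟨y, hy⟩ := h.surj 1 c
  rw [pow_one] at hy
  have h1 : φ w ∣ φ (x * y - 1) := by
    have : φ (x * y - 1) = -(φ x * (c - φ y)) := by
      rw [map_sub, map_mul, map_one, mul_sub, hc]
      ring
    rw [this]
    exact (dvd_neg).2 (hy.mul_left _)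
  obtain ⟨z, hz⟩ := h.inj 1 (x * y - 1) (by rwa [pow_one])
  have h2 := Ideal.mem_jacobson_bot.1 hw z
  have h3 : x * y = w * z + 1 := by
    rw [pow_one] at hz
    rw [← hz]
    ring
  rw [← h3] at h2
  exact isUnit_of_mul_isUnit_left h2

/-- Universal property: maps into a `w`-adically complete ring extend uniquely. -/
theorem exists_lift (h : IsCompl w φ) {D : Type w'} [CommRing D] (ψ : V →+* D)
    (hD : IsAdicComplete (Ideal.span {ψ w}) D) : ∃ θ : C →+* D, θ.comp φ = ψ := by
  -- `C → C / w ^ n ≅ V / w ^ n → D / w ^ n`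
  have hex : ∀ (n : ℕ) (c : C), ∃ x : V, φ w ^ n ∣ c - φ x := h.surj
  choose s hs using hex
  have hindep : ∀ (n : ℕ) (x y : V), φ w ^ n ∣ φ x - φ y → ψ w ^ n ∣ ψ x - ψ y := by
    intro n x y hxy
    rw [← map_sub] at hxy
    obtain ⟨z, hz⟩ := h.inj n _ hxy
    exact ⟨ψ z, by rw [← map_sub, hz, map_mul, map_pow]⟩
  have key : ∀ (n : ℕ) (c : C) (x : V), φ w ^ n ∣ c - φ x → ψ w ^ n ∣ ψ (s n c) - ψ x := by
    intro n c x hx
    refine hindep n _ _ ?_
    have : φ (s n c) - φ x = (c - φ x) - (c - φ (s n c)) := by ring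
    rw [this]
    exact dvd_sub hx (hs n c)
  let f : (n : ℕ) → C →+* D ⧸ (Ideal.span {ψ w}) ^ n := fun n =>
    { toFun := fun c => Ideal.Quotient.mk _ (ψ (s n c))
      map_one' := by
        have h1 := key n 1 1 (by simp)
        rw [← map_one (Ideal.Quotient.mk (Ideal.span {ψ w} ^ n)), Ideal.Quotient.eq, Ideal.span_singleton_pow,
          Ideal.mem_span_singleton]
        simpa using h1
      map_zero' := by
        have h1 := key n 0 0 (by simp)
        rw [Ideal.Quotient.eq_zero_iff_mem, Ideal.span_singleton_pow, Ideal.mem_span_singleton]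
        simpa using h1
      map_mul' := fun a b => by
        have h1 := key n (a * b) (s n a * s n b) (by
          have : a * b - φ (s n a * s n b) = a * (b - φ (s n b)) + (a - φ (s n a)) * φ (s n b) := by
            rw [map_mul]; ring
          rw [this]
          exact dvd_add ((hs n b).mul_left _) ((hs n a).mul_right _))
        rw [← map_mul, Ideal.Quotient.eq, Ideal.span_singleton_pow, Ideal.mem_span_singleton, ← map_mul]
        exact h1
      map_add' := fun a b => by
        have h1 := key n (a + b) (s n a + s n b) (by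
          have : a + b - φ (s n a + s n b) = (b - φ (s n b)) + (a - φ (s n a)) := by
            rw [map_add]; ring
          rw [this]
          exact dvd_add (hs n b) (hs n a))
        rw [← map_add, Ideal.Quotient.eq, Ideal.span_singleton_pow, Ideal.mem_span_singleton, ← map_add]
        exact h1 }
  have hf : ∀ {m n : ℕ} (hmn : m ≤ n), (Ideal.Quotient.factorPow (Ideal.span {ψ w}) hmn).comp (f n) = f m := by
    intro m n hmn
    ext c
    change Ideal.Quotient.factorPow _ hmn (Ideal.Quotient.mk _ (ψ (s n c))) = Ideal.Quotient.mk _ (ψ (s m c))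
    rw [Ideal.Quotient.factorPow, Ideal.Quotient.factor_mk, Ideal.Quotient.eq, Ideal.span_singleton_pow, Ideal.mem_span_singleton]
    rw [← neg_sub]
    exact (dvd_neg).2 (key m c _ ((pow_dvd_pow _ hmn).trans (hs n c)))
  refine ⟨IsAdicComplete.liftRingHom (Ideal.span {ψ w}) f hf, ?_⟩
  ext x
  have : IsHausdorff (Ideal.span {ψ w}) D := hD.toIsHausdorff
  refine sub_eq_zero.1 (IsHausdorff.haus (I := Ideal.span {ψ w}) inferInstance _ fun n => ?_)
  rw [smodEq_span_pow_iff, sub_zero]
  have h1 : Ideal.Quotient.mk (Ideal.span {ψ w} ^ n)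
      (IsAdicComplete.liftRingHom (Ideal.span {ψ w}) f hf (φ x)) = f n (φ x) :=
    IsAdicComplete.mk_liftRingHom (Ideal.span {ψ w}) f hf n _
  change _ = Ideal.Quotient.mk _ (ψ (s n (φ x))) at h1
  rw [Ideal.Quotient.eq, Ideal.span_singleton_pow, Ideal.mem_span_singleton] at h1
  have h2 := key n (φ x) x (by simp)
  have h3 := dvd_add h1 h2
  rw [sub_add_sub_cancel] at h3
  exact h3

end IsCompl

end K617.Aic
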