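import Groth.Agent.EtDual.K617.AicCompl

/-!
# The `w`-adic completion of an absolutely integrally closed valuation ring, II (seat 617)

For `h : IsCompl w φ`, `φ : V →+* C`, `V` a valuation domain, `w` not a unit: `C` is a valuation domain, and it is
absolutely integrally closed if `V` is.
-/

set_option autoImplicit false
universe u v w'

open Polynomial

namespace K617.Aic

open Curves

section Mul

variable {V : Type u} [CommRing V] [IsDomain V] [ValuationRing V]

/-- In a valuation domain, if `a ^ d` divides a product of `d ≥ 1` elements then `a` divides one of them. -/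
theorem exists_dvd_of_pow_dvd_prod (a : V) : ∀ s : Multiset V, s ≠ 0 → a ^ (Multiset.card s) ∣ s.prod →
    ∃ x ∈ s, a ∣ x := by
  intro s
  induction s using Multiset.induction_on with
  | empty => intro h; exact absurd rfl h
  | cons x s ih =>
    intro _ h
    by_cases hs : s = 0
    · subst hs
      exact ⟨x, Multiset.mem_cons_self _ _, by simpa using h⟩
    by_cases hx : a ∣ x
    · exact ⟨x, Multiset.mem_cons_self _ _, hx⟩
    obtain ⟨t, ht⟩ := (ValuationRing.dvd_total a x).resolve_left hx
    have hx0 : x ≠ 0 := fun h0 => hx (h0 ▸ dvd_zero _)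
    rw [Multiset.card_cons, Multiset.prod_cons, pow_succ] at h
    obtain ⟨z, hz⟩ := h
    have h1 : s.prod = a ^ (Multiset.card s) * (t * z) := by
      refine mul_left_cancel₀ hx0 ?_
      rw [hz]
      nth_rewrite 2 [ht]
      ring
    obtain ⟨y, hy, hay⟩ := ih hs ⟨_, h1⟩
    exact ⟨y, Multiset.mem_cons_of_mem hy, hay⟩

end Mul

namespace IsCompl

section

variable {V : Type u} [CommRing V] {C : Type v} [CommRing C] {w : V} {φ : V →+* C}

theorem nontrivial (h : IsCompl w φ) (hw : ¬ IsUnit w) : Nontrivial C := by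
  by_contra hC
  rw [not_nontrivial_iff_subsingleton] at hC
  have h1 := (h.map_eq_zero_iff (x := 1)).1 (Subsingleton.elim _ _) 1
  rw [pow_one] at h1
  exact hw (isUnit_of_dvd_one h1)

theorem map_eq_zero_iff' (h : IsCompl w φ) {x : V} : φ x = 0 ↔ x ∈ sepIdeal w := by
  rw [h.map_eq_zero_iff, mem_sepIdeal]

end

variable {V : Type u} [CommRing V] [IsDomain V] [ValuationRing V] {C : Type v} [CommRing C] {w : V} {φ : V →+* C}

theorem exists_unit_mul (h : IsCompl w φ) {c : C} (hc : c ≠ 0) : ∃ (x : V) (u : C), IsUnit u ∧ c = φ x * u := by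
  obtain ⟨n, hn⟩ : ∃ n, ¬ φ w ^ n ∣ c := by
    by_contra hcon
    push Not at hcon
    exact hc (h.eq_zero_of_forall hcon)
  obtain ⟨x, d, hd⟩ := h.surj (n + 1) c
  have hx : ¬ w ^ n ∣ x := fun hx => hn (by
    have h1 : c = φ x + φ w ^ (n + 1) * d := by rw [← hd]; ring
    rw [h1]
    refine dvd_add ?_ ((pow_dvd_pow _ (Nat.le_succ n)).mul_right d)
    rw [← map_pow]
    exact map_dvd φ hx)
  obtain ⟨s, hs⟩ := (ValuationRing.dvd_total (w ^ n) x).resolve_left hx
  refine ⟨x, 1 + φ w * (φ s * d), h.isUnit_one_add _, ?_⟩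
  have h1 : φ w ^ n = φ x * φ s := by rw [← map_pow, hs, map_mul]
  have h2 : c = φ x + φ w ^ (n + 1) * d := by rw [← hd]; ring
  rw [h2, pow_succ, h1]
  ring

theorem isDomain (h : IsCompl w φ) (hw : ¬ IsUnit w) : IsDomain C := by
  have := h.nontrivial hw
  have hp := isPrime_sepIdeal hw
  have : NoZeroDivisors C := ⟨fun {c d} hcd => by
    by_contra hcon
    rw [not_or] at hcon
    obtain ⟨x, u, hu, hx⟩ := h.exists_unit_mul hcon.1
    obtain ⟨y, v, hv, hy⟩ := h.exists_unit_mul hcon.2
    have h1 : φ (x * y) * (u * v) = 0 := by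
      rw [map_mul, ← hcd, hx, hy]
      ring
    have h2 := (hu.mul hv).mul_left_eq_zero.1 h1
    rw [h.map_eq_zero_iff'] at h2
    rcases hp.mem_or_mem h2 with h3 | h3
    · exact hcon.1 (by rw [hx, h.map_eq_zero_iff'.2 h3, zero_mul])
    · exact hcon.2 (by rw [hy, h.map_eq_zero_iff'.2 h3, zero_mul])⟩
  exact IsDomain.mk

theorem dvd_total (h : IsCompl w φ) (c d : C) : c ∣ d ∨ d ∣ c := by
  by_cases hc : c = 0
  · exact Or.inr (hc ▸ dvd_zero _)
  by_cases hd : d = 0
  · exact Or.inl (hd ▸ dvd_zero _)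
  obtain ⟨x, u, hu, hx⟩ := h.exists_unit_mul hc
  obtain ⟨y, v, hv, hy⟩ := h.exists_unit_mul hd
  rw [hx, hy]
  rcases ValuationRing.dvd_total x y with h1 | h1
  · exact Or.inl (hu.mul_right_dvd.2 ((map_dvd φ h1).mul_right v))
  · exact Or.inr (hv.mul_right_dvd.2 ((map_dvd φ h1).mul_right u))

theorem valuationRing (h : IsCompl w φ) [IsDomain C] : ValuationRing C := by
  rw [ValuationRing.iff_dvd_total]
  exact ⟨h.dvd_total⟩

/-- Monic polynomials over `C` are approximated by monic polynomials over `V`. -/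
theorem exists_approx (h : IsCompl w φ) (f : C[X]) (hf : f.Monic) (hd : 0 < f.natDegree) (n : ℕ) :
    ∃ g : V[X], g.Monic ∧ g.natDegree = f.natDegree ∧ ∀ c : C, φ w ^ n ∣ f.eval c - (g.map φ).eval c := by
  choose a ha using fun i => h.surj n (f.coeff i)
  set d := f.natDegree with hdd
  let g : V[X] := X ^ d + ∑ i ∈ Finset.range d, Polynomial.C (a i) * X ^ i
  have hgdeg : (∑ i ∈ Finset.range d, Polynomial.C (a i) * X ^ i : V[X]).degree < d := by
    refine Polynomial.mem_degreeLT.1 (Submodule.sum_mem _ fun i hi => Polynomial.mem_degreeLT.2 ?_)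
    exact (Polynomial.degree_C_mul_X_pow_le _ _).trans_lt (by exact_mod_cast Finset.mem_range.1 hi)
  refine ⟨g, Polynomial.monic_X_pow_add hgdeg, ?_, fun c => ?_⟩
  · refine Polynomial.natDegree_eq_of_degree_eq_some ?_
    rw [Polynomial.degree_add_eq_left_of_degree_lt (by rwa [Polynomial.degree_X_pow]), Polynomial.degree_X_pow]
  · have h1 : (g.map φ).eval c = c ^ d + ∑ i ∈ Finset.range d, φ (a i) * c ^ i := by
      simp [g, Polynomial.eval_finsetSum, Polynomial.map_sum]
    rw [h1, Polynomial.eval_eq_sum_range, ← hdd, Finset.sum_range_succ, hf.coeff_natDegree, one_mul,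
      add_comm (c ^ d), add_sub_add_right_eq_sub, ← Finset.sum_sub_distrib]
    refine Finset.dvd_sum fun i _ => ?_
    rw [← sub_mul]
    exact (ha i).mul_right _

/-- **The `w`-adic completion of an a.i.c. valuation ring is absolutely integrally closed.** -/
theorem isAIC (h : IsCompl w φ) (haic : IsAIC V) : IsAIC C := by
  intro f hf hd
  choose g hg hgd hga using fun n => h.exists_approx f hf hd (n * f.natDegree)
  have hclose : ∀ (k : ℕ) (r : V), (g k).eval r = 0 →
      ∃ r' : V, (g (k + 1)).eval r' = 0 ∧ w ^ k ∣ r' - r := by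
    intro k r hr
    have h1 : w ^ (k * f.natDegree) ∣ (g (k + 1)).eval r := by
      refine h.inj _ _ ?_
      have h2 : φ ((g (k + 1)).eval r) = (f.eval (φ r) - ((g k).map φ).eval (φ r)) -
          (f.eval (φ r) - ((g (k + 1)).map φ).eval (φ r)) := by
        rw [Polynomial.eval_map_apply, Polynomial.eval_map_apply, hr, map_zero]
        ring
      rw [h2]
      exact dvd_sub (hga k _) ((pow_dvd_pow _ (Nat.mul_le_mul_right _ (Nat.le_succ k))).trans (hga (k + 1) _))
    obtain ⟨s, hs, hs'⟩ := exists_multiset haic _ (g (k + 1)) (hg _) rfl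
    rw [hs', eval_eq_prod] at h1
    have hcard : Multiset.card (s.map fun a => r - a) = f.natDegree := by
      rw [Multiset.card_map, hs, hgd]
    rw [pow_mul, ← hcard] at h1
    have hne : (s.map fun a => r - a) ≠ 0 := by
      intro h0
      rw [h0, Multiset.card_zero] at hcard
      omega
    obtain ⟨x, hx, hxd⟩ := exists_dvd_of_pow_dvd_prod _ _ hne h1
    obtain ⟨r', hr', rfl⟩ := Multiset.mem_map.1 hx
    refine ⟨r', ?_, ?_⟩
    · rw [hs', eval_eq_prod]
      exact Multiset.prod_eq_zero (Multiset.mem_map.2 ⟨r', hr', sub_self _⟩)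
    · rw [← neg_sub]
      exact (dvd_neg).2 hxd
  obtain ⟨r₀, hr₀⟩ := haic (g 0) (hg 0) (by rw [hgd]; exact hd)
  let S : (k : ℕ) → {r : V // (g k).eval r = 0} := fun k =>
    Nat.rec ⟨r₀, hr₀⟩ (fun k r => ⟨(hclose k r.1 r.2).choose, (hclose k r.1 r.2).choose_spec.1⟩) k
  have hS : ∀ k, w ^ k ∣ (S (k + 1)).1 - (S k).1 := fun k => (hclose k (S k).1 (S k).2).choose_spec.2
  obtain ⟨l, hl⟩ := h.exists_limit (fun k => φ (S k).1) fun k => by
    rw [← map_sub, ← map_pow]
    exact map_dvd φ (hS k)
  refine ⟨l, h.eq_zero_of_forall fun n => ?_⟩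
  have h1 : φ w ^ n ∣ f.eval l - f.eval (φ (S n).1) := (hl n).trans (Polynomial.sub_dvd_eval_sub _ _ f)
  have h2 : φ w ^ n ∣ f.eval (φ (S n).1) := by
    have h3 := hga n (φ (S n).1)
    rw [Polynomial.eval_map_apply, (S n).2, map_zero, sub_zero] at h3
    exact (pow_dvd_pow _ (Nat.le_mul_of_pos_right n hd)).trans h3
  have h4 := dvd_add h1 h2
  rwa [sub_add_cancel] at h4

end IsCompl

/-- **Completions exist**: for `V` an a.i.c. valuation ring and `w` a non-unit there is a `w`-adic completion
`φ : V →+* C` with `C` an a.i.c. valuation domain in the same universe, and `φ` is local. -/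
theorem exists_isCompl {V : Type u} [CommRing V] [IsDomain V] [ValuationRing V] (haic : IsAIC V) (w : V)
    (hw : ¬ IsUnit w) : ∃ (C : Type u) (_ : CommRing C) (_ : IsDomain C) (_ : ValuationRing C) (φ : V →+* C),
      IsCompl w φ ∧ IsAIC C ∧ IsLocalHom φ ∧ (∀ x, φ x = 0 ↔ ∀ n, w ^ n ∣ x) := by
  have h := isCompl_adicCompletion w
  have := h.isDomain hw
  refine ⟨AdicCompletion (Ideal.span {w}) V, inferInstance, h.isDomain hw, h.valuationRing, algebraMap _ _, h,
    h.isAIC haic, h.isLocalHom ?_, fun x => h.map_eq_zero_iff⟩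
  rw [IsLocalRing.jacobson_eq_maximalIdeal _ bot_ne_top]
  exact hw

/-- **Extension to the completion**: if `V` is `w`-separated and `θ : V →+* V'` is a local injective map of valuation
rings then the composition with the `w`-adic completion of `V'` is injective and local. -/
theorem comp_injective {V : Type u} [CommRing V] [IsDomain V] [ValuationRing V] {V' : Type v} [CommRing V'] [IsDomain V']
    [ValuationRing V'] (θ : V →+* V') (hinj : Function.Injective θ) [hloc : IsLocalHom θ] {w : V}
    (hsep : ∀ x : V, (∀ n, w ^ n ∣ x) → x = 0) {C : Type w'} [CommRing C] {φ : V' →+* C} (h : IsCompl (θ w) φ) :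
    Function.Injective (φ.comp θ) := by
  rw [injective_iff_map_eq_zero]
  intro x hx
  refine hsep x fun n => ?_
  have h1 := (h.map_eq_zero_iff).1 hx n
  rw [← map_pow] at h1
  -- `θ` reflects divisibility
  rcases ValuationRing.dvd_total (w ^ n) x with h2 | ⟨z, hz⟩
  · exact h2
  · obtain ⟨y, hy⟩ := h1
    by_cases hx0 : x = 0
    · rw [hx0]; exact dvd_zero _
    have h3 : θ x * (θ z * y - 1) = 0 := by
      have : θ x * (θ z * y) = θ (w ^ n) * y := by rw [hz, map_mul]; ring
      rw [mul_sub, this, mul_one, ← hy, sub_self]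
    have h4 : θ z * y = 1 := by
      rcases mul_eq_zero.1 h3 with h5 | h5
      · exact absurd ((injective_iff_map_eq_zero θ).1 hinj x h5) hx0
      · exact sub_eq_zero.1 h5
    have h5 : IsUnit z := hloc.map_nonunit z (IsUnit.of_mul_eq_one _ h4)
    rw [hz]
    exact h5.mul_right_dvd.2 (dvd_refl x)

end K617.Aic
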