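import Groth.Agent.EtDual.K617.UDTransport

/-!
# Quasi-isomorphisms are local for universal descent (seat 617)

* `qMap_of_local`: `s : T' ⟶ T` induces a quasi-isomorphism if its base changes to the terms of the Cech nerve of a
  morphism of universal descent do;
* `uq_of_local`: `UQ A` is local for `UD A`;
* `acyclic_of_local`: acyclicity is local (for complexes vanishing in degrees `< a`).
-/

set_option autoImplicit false
set_option backward.isDefEq.respectTransparency false
set_option backward.isDefEq.respectTransparency.types false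
set_option linter.unusedSectionVars false

universe u v w u' v' u₁ v₁

open CategoryTheory CategoryTheory.Limits Opposite ComplexShape

namespace K617.UDQuasi

open K781.Desc K781.Cech K933.UnivDesc HomologicalComplex₂

section total

variable {A B : CochainComplex (Dp ⥤ AddCommGrpCat.{w}) ℤ}

/-- A morphism of complexes with descent which is a quasi-isomorphism in the cosimplicial degrees is a
quasi-isomorphism at the coaugmentation. -/
theorem qAt_star (hA : BB A) (hB : BB B) (φ : A ⟶ B) (h : ∀ n : ℕ, QAt φ (ob n)) (dA : IsDesc A) (dB : IsDesc B) :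
    QAt φ WithInitial.star := by
  have h2 := quasiIso_DC_total hA hB φ (fun n => h _)
  have dA' : QuasiIso (total.map (α A) (up ℤ)) := dA
  have dB' : QuasiIso (total.map (α B) (up ℤ)) := dB
  have h3 : total.map (((eF AddCommGrpCat.{w} ⋙ HomologicalComplex.single AddCommGrpCat.{w} (up ℤ)
      0).mapHomologicalComplex (up ℤ)).map φ) (up ℤ) ≫ total.map (α B) (up ℤ) =
      total.map (α A) (up ℤ) ≫ total.map (((rF AddCommGrpCat.{w} ⋙ cf AddCommGrpCat.{w}).mapHomologicalComplex
        (up ℤ)).map φ) (up ℤ) := by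
    rw [← total.map_comp, ← total.map_comp, α_naturality]
  have h4 : QuasiIso (total.map (((eF AddCommGrpCat.{w} ⋙ HomologicalComplex.single AddCommGrpCat.{w} (up ℤ)
      0).mapHomologicalComplex (up ℤ)).map φ) (up ℤ) ≫ total.map (α B) (up ℤ)) := by
    rw [h3]
    infer_instance
  exact qAt_star_of_total φ ((quasiIso_iff_comp_right _ _).1 h4)

end total

variable {C : Type u} [Category.{v} C] {A : CochainComplex (Cᵒᵖ ⥤ AddCommGrpCat.{w}) ℤ} [HasPullbacks C]
  [∀ (n : ℕ) (f : Arrow C), HasWidePullback f.right (fun _ : Fin (n + 1) => f.left) fun _ => f.hom]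

/-- **Locality of quasi-isomorphisms.** -/
theorem qMap_of_local (hA : BB A) {T' T T₁ : C} (s : T' ⟶ T) (h : T₁ ⟶ T) (hh : UD A h)
    (hs : ∀ ⦃Z' Z : C⦄ (s' : Z' ⟶ Z) (a : Z' ⟶ T') (b : Z ⟶ T) (c : Z ⟶ T₁), c ≫ h = b → IsPullback a s' s b →
      QMap A s') : QMap A s := by
  let τ : Dpᵒᵖ ⥤ C := nerve h
  have hτ : IsCech τ := isCech_nerve h
  have hτ' : IsCech (bcD τ s) := isCech_bcD hτ s
  -- the augmentation of `bcD τ s` is a base change of `h`
  have h3 : τ.map (init .star).op = 𝟙 _ := by
    have : (init .star : WithInitial.star ⟶ .star) = 𝟙 _ := Subsingleton.elim _ _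
    rw [this, op_id]
    exact τ.map_id _
  have hsq := (bcFst_sq_init τ s (ob 0)).paste_horiz (sq_nerveZero h)
  have d1 : IsDesc (rs τ.rightOp A) := hh.desc
  have d2 : IsDesc (rs (bcD τ s).rightOp A) := hh _ hτ' _ _ hsq
  have hn : ∀ n : ℕ, QAt (rsMap A (bcFst τ s)) (ob n) := by
    intro n
    have h4 := bcFst_sq τ s (ob n)
    refine hs ((bcFst τ s).app (op (ob n))) _ (τ.map (init (ob n)).op) (τ.map (vtx n 0).op ≫ (nerveZero h).hom) ?_
      h4.flip
    rw [Category.assoc, nerveZero_hom, map_vtx_init]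
  have h5 : QMap A ((bcFst τ s).app (op .star)) :=
    qAt_star (bb_rs hA _) (bb_rs hA _) (rsMap A (bcFst τ s)) hn d1 d2
  have h0 := isIso_snd_star τ s
  have h6 : (bcFst τ s).app (op .star) = pullback.snd ((lift τ (𝟙 _)).obj (op .star)).hom s ≫ s := by
    have hstar := bcFst_sq τ s .star
    rw [← hstar.w, h3, Category.comp_id]
  rw [h6] at h5
  exact QMap.of_comp_right h5 (qMap_of_isIso _)

/-- **Locality of `UQ A`.** -/
theorem uq_of_local (hA : BB A) {T' T T₁ : C} (s : T' ⟶ T) (h : T₁ ⟶ T) (hh : UD A h)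
    (hs : UQ A (pullback.snd s h)) : UQ A s := by
  intro Z' Z s' a b sq
  refine qMap_of_local hA s' (pullback.snd h b) (UD.of_sq (IsPullback.of_hasPullback h b) hh) ?_
  intro W' W s'' a' b' c hc sq'
  -- `W ⟶ T₁ ×_T Z ⟶ T₁`
  have h1 : IsPullback (a' ≫ a) s'' s (b' ≫ b) := sq'.paste_horiz sq
  have h2 : b' ≫ b = (c ≫ pullback.fst h b) ≫ h := by
    rw [Category.assoc, pullback.condition, ← Category.assoc, hc]
  rw [h2] at h1
  exact hs s'' _ _ (IsPullback.of_right' h1 (IsPullback.of_hasPullback s h))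

end K617.UDQuasi
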