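import Groth.Agent.EtDual.K617.UDTransport

/-!
# Cech nerves and connected limits (seat 617)

`exists_nerve_limit`: if the augmentation `τ₀ ⟶ T` of a Cech object is a limit, indexed by a connected category, of
objects `D_i` over `T`, then `τ` is the limit of Cech objects `E_i` with augmentation `D_i ⟶ T`.
`map_init`: the structure maps of a Cech object belong to every multiplicative class stable under base change
containing the augmentation.
-/

set_option autoImplicit false
set_option backward.isDefEq.respectTransparency false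
set_option backward.isDefEq.respectTransparency.types false
set_option linter.unusedSectionVars false

universe v₁ u₁ w w'

open CategoryTheory CategoryTheory.Limits Opposite

namespace K617.NerveLim

open K781.Desc K781.Cech K933.UnivDesc

variable {C : Type u₁} [Category.{v₁} C]
  [∀ (n : ℕ) (f : Arrow C), HasWidePullback f.right (fun _ : Fin (n + 1) => f.left) fun _ => f.hom]

/-- The Cech nerve as a functor. -/
noncomputable abbrev nerveF : Arrow C ⥤ Dpᵒᵖ ⥤ C :=
  SimplicialObject.augmentedCechNerve ⋙ AugmentedSimplexCategory.equivAugmentedSimplicialObject.inverse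

/-- Objects over `T` as arrows. -/
abbrev arrF (T : C) : Over T ⥤ Arrow C where
  obj X := Arrow.mk X.hom
  map f := Arrow.homMk f.left (𝟙 T) (by simp)

lemma nerveF_star {f g : Arrow C} (φ : f ⟶ g) : (nerveF.map φ).app (op .star) = φ.right := rfl

lemma nerveF_π {f g : Arrow C} (φ : f ⟶ g) (n : ℕ) (j : Fin (n + 1)) :
    (nerveF.map φ).app (op (ob n)) ≫ π g.hom n j = π f.hom n j ≫ φ.left :=
  WidePullback.lift_π _ _ _ _ _

variable {I : Type w} [Category.{w'} I] {T : C}

/-- The system of Cech nerves. -/
noncomputable abbrev EE (D : I ⥤ Over T) : I ⥤ Dpᵒᵖ ⥤ C := D ⋙ arrF T ⋙ nerveF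

lemma EE_map_π (D : I ⥤ Over T) {i j : I} (f : i ⟶ j) (n : ℕ) (k : Fin (n + 1)) :
    ((EE D).map f).app (op (ob n)) ≫ π (D.obj j).hom n k = π (D.obj i).hom n k ≫ (D.map f).left :=
  nerveF_π ((arrF T).map (D.map f)) n k

lemma EE_map_star (D : I ⥤ Over T) {i j : I} (f : i ⟶ j) : ((EE D).map f).app (op .star) = 𝟙 T := rfl

/-- The structure map to the base. -/
lemma EE_map_init (D : I ⥤ Over T) {i j : I} (f : i ⟶ j) (n : ℕ) :
    ((EE D).map f).app (op (ob n)) ≫ ((EE D).obj j).map (init (ob n)).op = ((EE D).obj i).map (init (ob n)).op := by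
  rw [← ((EE D).map f).naturality (init (ob n)).op, EE_map_star]
  exact Category.comp_id _

section proj

variable {τ : Dpᵒᵖ ⥤ C} {D : I ⥤ Over (τ.obj (op .star))} (c : Cone D)
  (e : Over.mk (τ.map (init (ob 0)).op) ⟶ c.pt)

/-- The morphism in degree zero. -/
noncomputable abbrev q₀ (i : I) : τ.obj (op (ob 0)) ⟶ (D.obj i).left := (e ≫ c.π.app i).left

lemma q₀_hom (i : I) : q₀ c e i ≫ (D.obj i).hom = τ.map (init (ob 0)).op := Over.w (e ≫ c.π.app i)

lemma exists_proj (i : I) : ∃ φ : τ ⟶ (EE D).obj i,
    φ.app (op (ob 0)) = q₀ c e i ≫ (nerveZero (D.obj i).hom).inv ∧ φ.app (op .star) = 𝟙 _ :=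
  exists_hom (isCech_nerve (D.obj i).hom) (q₀ c e i ≫ (nerveZero (D.obj i).hom).inv) (𝟙 _) (by
    rw [Category.assoc, nerveZero_inv, q₀_hom]
    exact Category.comp_id _)

/-- The projections. -/
noncomputable def proj (i : I) : τ ⟶ (EE D).obj i := (exists_proj c e i).choose

lemma proj_zero (i : I) : (proj c e i).app (op (ob 0)) = q₀ c e i ≫ (nerveZero (D.obj i).hom).inv :=
  (exists_proj c e i).choose_spec.1

lemma proj_star (i : I) : (proj c e i).app (op .star) = 𝟙 _ := (exists_proj c e i).choose_spec.2

lemma proj_π (i : I) (n : ℕ) (k : Fin (n + 1)) :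
    (proj c e i).app (op (ob n)) ≫ π (D.obj i).hom n k = τ.map (vtx n k).op ≫ q₀ c e i := by
  rw [← nerve_vtx]
  have h := (proj c e i).naturality (vtx n k).op
  rw [proj_zero] at h
  have h2 : (τ.map (vtx n k).op ≫ q₀ c e i ≫ (nerveZero (D.obj i).hom).inv) ≫ (nerveZero (D.obj i).hom).hom =
      ((proj c e i).app (op (ob n)) ≫ ((EE D).obj i).map (vtx n k).op) ≫ (nerveZero (D.obj i).hom).hom :=
    congrArg (· ≫ (nerveZero (D.obj i).hom).hom) h
  refine Eq.trans (Category.assoc _ _ _).symm (h2.symm.trans ?_)
  rw [Category.assoc, Category.assoc, Iso.inv_hom_id, Category.comp_id]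

lemma proj_map {i j : I} (f : i ⟶ j) : proj c e i ≫ (EE D).map f = proj c e j := by
  refine hom_ext (isCech_nerve (D.obj j).hom) _ _ ?_ ?_
  · apply nerve_hom_ext
    intro k
    rw [NatTrans.comp_app, Category.assoc]
    refine (congrArg (fun t => (proj c e i).app (op (ob 0)) ≫ t) (EE_map_π D f 0 k)).trans ?_
    rw [← Category.assoc, proj_π, proj_π, Category.assoc]
    congr 1
    change (e ≫ c.π.app i).left ≫ (D.map f).left = (e ≫ c.π.app j).left
    rw [← Over.comp_left, Category.assoc, c.w]
  · rw [NatTrans.comp_app, proj_star, proj_star]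
    exact Category.comp_id _

/-- The cone of projections. -/
noncomputable def projC : (Functor.const I).obj τ ⟶ EE D where
  app i := proj c e i
  naturality _ _ f := (Category.id_comp _).trans (proj_map c e f).symm

end proj

theorem exists_nerve_limit [IsConnected I] (τ : Dpᵒᵖ ⥤ C) (hτ : IsCech τ) (D : I ⥤ Over (τ.obj (op .star)))
    (c : Cone D) (hc : IsLimit c) (e : Over.mk (τ.map (init (ob 0)).op) ≅ c.pt) :
    ∃ (E : I ⥤ Dpᵒᵖ ⥤ C) (p : (Functor.const I).obj τ ⟶ E), (∀ i, IsCech (E.obj i)) ∧
      (∀ i, ∃ (α : (E.obj i).obj (op .star) ≅ τ.obj (op .star)) (β : (E.obj i).obj (op (ob 0)) ≅ (D.obj i).left),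
        (E.obj i).map (init (ob 0)).op ≫ α.hom = β.hom ≫ (D.obj i).hom ∧
        (p.app i).app (op .star) ≫ α.hom = 𝟙 _ ∧
        (p.app i).app (op (ob 0)) ≫ β.hom = (e.hom ≫ c.π.app i).left) ∧
      (∀ x : Dp, Nonempty (IsLimit (((evaluation _ _).obj (op x)).mapCone ⟨τ, p⟩))) := by
  refine ⟨EE D, projC c e.hom, fun i => isCech_nerve _, fun i => ⟨Iso.refl _, nerveZero (D.obj i).hom, ?_, ?_, ?_⟩,
    fun x => ?_⟩
  · rw [nerveZero_hom]
    exact Category.comp_id _
  · exact (Category.comp_id _).trans (proj_star c e.hom i)
  · refine (congrArg (· ≫ (nerveZero (D.obj i).hom).hom) (proj_zero c e.hom i)).trans ?_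
    rw [Category.assoc, Iso.inv_hom_id, Category.comp_id]
  · rcases x with n | _
    · -- degree `n`
      have key : ∀ (s : Cone (EE D ⋙ (evaluation _ _).obj (op (ob n.len)))),
          ∃ l : s.pt ⟶ τ.obj (op (ob n.len)),
            ∀ i, l ≫ (proj c e.hom i).app (op (ob n.len)) = s.π.app i := by
        intro s
        obtain ⟨i₀⟩ : Nonempty I := inferInstance
        let bb : I → (s.pt ⟶ τ.obj (op .star)) := fun i => s.π.app i ≫ ((EE D).obj i).map (init (ob n.len)).op
        have hb : ∀ i j, bb i = bb j := by
          intro i j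
          refine constant_of_preserves_morphisms bb (fun a b f => ?_) i j
          dsimp only [bb]
          rw [← EE_map_init D f n.len, ← Category.assoc]
          congr 1
          exact s.w f
        let Z : Over (τ.obj (op .star)) := Over.mk (bb i₀)
        have hZ : ∀ (k : Fin (n.len + 1)) (i : I),
            (s.π.app i ≫ π (D.obj i).hom n.len k) ≫ (D.obj i).hom = bb i₀ := by
          intro k i
          rw [Category.assoc, π_comp, hb i₀ i]
          rfl
        let cn : Fin (n.len + 1) → Cone D := fun k =>
          { pt := Z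
            π :=
              { app := fun i => Over.homMk (s.π.app i ≫ π (D.obj i).hom n.len k) (hZ k i)
                naturality := by
                  intro i j f
                  ext
                  change 𝟙 _ ≫ s.π.app j ≫ π (D.obj j).hom n.len k =
                    (s.π.app i ≫ π (D.obj i).hom n.len k) ≫ (D.map f).left
                  rw [Category.id_comp, Category.assoc, ← EE_map_π D f, ← Category.assoc]
                  congr 1
                  exact (s.w f).symm } }
        obtain ⟨l, hl⟩ := hτ.exists_lift n.len s.pt (fun k => (hc.lift (cn k) ≫ e.inv).left) (by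
          intro k k'
          have h1 : ∀ k, (hc.lift (cn k) ≫ e.inv).left ≫ τ.map (init (ob 0)).op = bb i₀ := fun k =>
            Over.w (hc.lift (cn k) ≫ e.inv)
          rw [h1, h1])
        refine ⟨l, fun i => ?_⟩
        apply nerve_hom_ext
        intro k
        rw [Category.assoc, proj_π, ← Category.assoc, hl]
        change (hc.lift (cn k) ≫ e.inv).left ≫ (e.hom ≫ c.π.app i).left = _
        rw [← Over.comp_left, Category.assoc, Iso.inv_hom_id_assoc, hc.fac]
        rfl
      have uniq : ∀ {Z : C} (a b : Z ⟶ τ.obj (op (ob n.len))),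
          (∀ i, a ≫ (proj c e.hom i).app (op (ob n.len)) = b ≫ (proj c e.hom i).app (op (ob n.len))) → a = b := by
        intro Z a b hab
        obtain ⟨i₀⟩ : Nonempty I := inferInstance
        apply hτ.hom_ext
        intro k
        -- as morphisms over the base
        have h0 : ∀ i, (a ≫ τ.map (vtx n.len k).op) ≫ q₀ c e.hom i = (b ≫ τ.map (vtx n.len k).op) ≫ q₀ c e.hom i := by
          intro i
          rw [Category.assoc, Category.assoc, ← proj_π, ← Category.assoc, ← Category.assoc, hab]
        have h1 : (b ≫ τ.map (vtx n.len k).op) ≫ τ.map (init (ob 0)).op =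
            (a ≫ τ.map (vtx n.len k).op) ≫ τ.map (init (ob 0)).op := by
          rw [← q₀_hom c e.hom i₀, ← Category.assoc, ← Category.assoc, h0]
        let a' : Over.mk ((a ≫ τ.map (vtx n.len k).op) ≫ τ.map (init (ob 0)).op) ⟶
            Over.mk (τ.map (init (ob 0)).op) := Over.homMk (a ≫ τ.map (vtx n.len k).op) rfl
        let b' : Over.mk ((a ≫ τ.map (vtx n.len k).op) ≫ τ.map (init (ob 0)).op) ⟶
            Over.mk (τ.map (init (ob 0)).op) := Over.homMk (b ≫ τ.map (vtx n.len k).op) h1
        have h2 : a' ≫ e.hom = b' ≫ e.hom := by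
          apply hc.hom_ext
          intro i
          refine (Category.assoc a' e.hom (c.π.app i)).trans
            (Eq.trans ?_ (Category.assoc b' e.hom (c.π.app i)).symm)
          exact Over.OverMorphism.ext (h0 i)
        have h3 : a' = b' := (cancel_mono e.hom).1 h2
        exact congrArg CommaMorphism.left h3
      exact ⟨{
        lift := fun s => (key s).choose
        fac := fun s i => (key s).choose_spec i
        uniq := fun s m hm => uniq _ _ fun i => (hm i).trans ((key s).choose_spec i).symm }⟩
    · -- the augmentation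
      have h0 : ∀ (s : Cone (EE D ⋙ (evaluation _ _).obj (op .star))) (i j : I), s.π.app i = s.π.app j := by
        intro s i j
        refine constant_of_preserves_morphisms (α := s.pt ⟶ τ.obj (op .star)) (fun i => s.π.app i) (fun a b f => ?_) i j
        have h1 := s.w f
        exact (Category.comp_id _).symm.trans h1
      obtain ⟨i₀⟩ : Nonempty I := inferInstance
      exact ⟨{
        lift := fun s => (s.π.app i₀ : s.pt ⟶ τ.obj (op .star))
        fac := fun s i => by
          change (s.π.app i₀ : s.pt ⟶ τ.obj (op .star)) ≫ (proj c e.hom i).app (op .star) = s.π.app i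
          rw [proj_star, h0 s i₀ i]
          exact Category.comp_id _
        uniq := fun s m hm => by
          rw [← hm i₀]
          change m = m ≫ (proj c e.hom i₀).app (op .star)
          rw [proj_star]
          exact (Category.comp_id _).symm }⟩

omit [∀ (n : ℕ) (f : Arrow C), HasWidePullback f.right (fun _ : Fin (n + 1) => f.left) fun _ => f.hom] in
/-- The structure maps of a Cech object. -/
theorem map_init (P : MorphismProperty C) [P.IsMultiplicative] [P.IsStableUnderBaseChange]
    (τ : Dpᵒᵖ ⥤ C) (hτ : IsCech τ) (h : P (τ.map (init (ob 0)).op)) (x : Dp) : P (τ.map (init x).op) := by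
  rcases x with n | _
  · change P (τ.map (init (ob n.len)).op)
    generalize n.len = m
    induction m with
    | zero => exact h
    | succ m ih =>
      have sq := K617.UDQuasi.sq_succ hτ m
      rw [← map_vtx_init τ (m + 1) (Fin.last (m + 1))]
      exact P.comp_mem _ _ (P.of_isPullback sq ih) h
  · have h1 : (init .star : WithInitial.star ⟶ .star) = 𝟙 _ := Subsingleton.elim _ _
    rw [h1, op_id, τ.map_id]
    exact P.id_mem _

end K617.NerveLim
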