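import Groth.Agent.EtDual.K617.VCovCalc
import Mathlib.RingTheory.Flat.Basic
import Mathlib.RingTheory.Bezout
import Mathlib.Algebra.Group.Pi.Units

/-!
# Products of valuation rings (seat 617)

* `exists_gcd`, `isBezout_pi`: a product of valuation domains is a Bezout ring;
* `flat_pi`, `faithfullyFlat_pi`: for injective (local) maps `θ i : V i →+* V' i` of valuation domains the map of the
  products is (faithfully) flat;
* `vcov_pi`: it has the valuation lifting property.
-/

set_option autoImplicit false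
universe u v

open scoped TensorProduct

namespace K617.VC

section Bez

variable {I : Type u} (V : I → Type v) [∀ i, CommRing (V i)] [∀ i, IsDomain (V i)] [∀ i, ValuationRing (V i)]

theorem exists_gcd (a b : ∀ i, V i) : ∃ g x y : ∀ i, V i, g = x * a + y * b ∧ g ∣ a ∧ g ∣ b := by
  have h : ∀ i, ∃ g x y s t : V i, g = x * a i + y * b i ∧ a i = g * s ∧ b i = g * t := by
    intro i
    rcases ValuationRing.dvd_total (a i) (b i) with ⟨t, ht⟩ | ⟨t, ht⟩
    · exact ⟨a i, 1, 0, 1, t, by ring, by ring, ht⟩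
    · exact ⟨b i, 0, 1, t, 1, by ring, ht, by ring⟩
  choose g x y s t h1 h2 h3 using h
  exact ⟨g, x, y, funext h1, ⟨s, funext h2⟩, ⟨t, funext h3⟩⟩

theorem isBezout_pi : IsBezout (∀ i, V i) := by
  rw [IsBezout.iff_span_pair_isPrincipal]
  intro a b
  obtain ⟨g, x, y, h, ha, hb⟩ := exists_gcd V a b
  refine ⟨g, le_antisymm ?_ ?_⟩
  · rw [Ideal.span_le]
    rintro z (rfl | rfl)
    · exact Ideal.mem_span_singleton.2 ha
    · exact Ideal.mem_span_singleton.2 hb
  · refine (Ideal.span_singleton_le_iff_mem _).2 ?_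
    rw [h]
    exact Ideal.add_mem _ (Ideal.mul_mem_left _ _ (Ideal.subset_span (by simp)))
      (Ideal.mul_mem_left _ _ (Ideal.subset_span (by simp)))

end Bez

section Map

variable {I : Type u} {V V' : I → Type u} [∀ i, CommRing (V i)] [∀ i, CommRing (V' i)]

/-- The product of a family of ring maps. -/
def piMap (θ : ∀ i, V i →+* V' i) : (∀ i, V i) →+* (∀ i, V' i) :=
  RingHom.pi fun i => (θ i).comp (Pi.evalRingHom V i)

@[simp]
theorem piMap_apply (θ : ∀ i, V i →+* V' i) (x : ∀ i, V i) (i : I) : piMap θ x i = θ i (x i) := rfl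

variable [∀ i, IsDomain (V i)] [∀ i, ValuationRing (V i)] [∀ i, IsDomain (V' i)]

theorem flat_pi (θ : ∀ i, V i →+* V' i) (hθ : ∀ i, Function.Injective (θ i)) : (piMap θ).Flat := by
  classical
  let : Algebra (∀ i, V i) (∀ i, V' i) := (piMap θ).toAlgebra
  change Module.Flat (∀ i, V i) (∀ i, V' i)
  have hB := isBezout_pi V
  rw [Module.Flat.iff_rTensor_injective]
  intro 𝔞 h𝔞
  obtain ⟨a, ha⟩ := hB.isPrincipal_of_FG 𝔞 h𝔞
  rw [injective_iff_map_eq_zero]
  have hmem : a ∈ 𝔞 := ha ▸ Submodule.mem_span_singleton_self a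
  have hgen : ∀ x : 𝔞 ⊗[∀ i, V i] (∀ i, V' i), ∃ y : ∀ i, V' i, x = (⟨a, hmem⟩ : 𝔞) ⊗ₜ y := by
    intro x
    induction x using TensorProduct.induction_on with
    | zero => exact ⟨0, by rw [TensorProduct.tmul_zero]⟩
    | tmul b z =>
      obtain ⟨b, hb⟩ := b
      rw [ha] at hb
      obtain ⟨c, hc⟩ := Submodule.mem_span_singleton.1 hb
      refine ⟨c • z, ?_⟩
      rw [TensorProduct.tmul_smul, TensorProduct.smul_tmul']
      congr 1
      exact Subtype.ext hc.symm
    | add x y hx hy =>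
      obtain ⟨x', rfl⟩ := hx
      obtain ⟨y', rfl⟩ := hy
      exact ⟨x' + y', by rw [TensorProduct.tmul_add]⟩
  intro x hx
  obtain ⟨y, rfl⟩ := hgen x
  have h1 : piMap θ a * y = 0 := by
    have h2 := congrArg (TensorProduct.lid (∀ i, V i) (∀ i, V' i)) hx
    rw [LinearMap.rTensor_tmul, TensorProduct.lid_tmul, map_zero] at h2
    exact h2
  let e : ∀ i, V i := fun i => if a i = 0 then 1 else 0
  have he : e * a = 0 := by
    funext i
    by_cases h : a i = 0
    · simp [h]
    · simp [e, h]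
  have hy : y = e • y := by
    funext i
    change y i = θ i (e i) * y i
    by_cases h : a i = 0
    · simp [e, h]
    · have h3 : θ i (a i) * y i = 0 := congrFun h1 i
      rcases mul_eq_zero.1 h3 with h4 | h4
      · exact absurd ((injective_iff_map_eq_zero (θ i)).1 (hθ i) _ h4) h
      · rw [h4, mul_zero]
  rw [hy, TensorProduct.tmul_smul, TensorProduct.smul_tmul']
  have h5 : e • (⟨a, hmem⟩ : 𝔞) = 0 := Subtype.ext he
  rw [h5, TensorProduct.zero_tmul]

theorem comap_piMap_surjective (θ : ∀ i, V i →+* V' i) (hθ : ∀ i, Function.Injective (θ i))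
    (hl : ∀ i, IsLocalHom (θ i)) : Function.Surjective (PrimeSpectrum.comap (piMap θ)) := by
  let : Algebra (∀ i, V i) (∀ i, V' i) := (piMap θ).toAlgebra
  have hfl : Module.Flat (∀ i, V i) (∀ i, V' i) := flat_pi θ hθ
  have hff : Module.FaithfullyFlat (∀ i, V i) (∀ i, V' i) := by
    refine ⟨fun m hm h => ?_⟩
    have key : ∀ y ∈ (m • ⊤ : Submodule (∀ i, V i) (∀ i, V' i)), ∃ a ∈ m, piMap θ a ∣ y := by
      intro y hy
      refine Submodule.smul_induction_on hy (fun r hr z _ => ⟨r, hr, ⟨z, rfl⟩⟩) ?_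
      rintro x y ⟨a, ha, hax⟩ ⟨b, hb, hby⟩
      obtain ⟨g, s, t, hg, hga, hgb⟩ := exists_gcd V a b
      refine ⟨g, ?_, dvd_add ((map_dvd _ hga).trans hax) ((map_dvd _ hgb).trans hby)⟩
      rw [hg]
      exact Ideal.add_mem _ (Ideal.mul_mem_left _ _ ha) (Ideal.mul_mem_left _ _ hb)
    obtain ⟨a, ha, h1⟩ := key 1 (by rw [h]; exact Submodule.mem_top)
    refine hm.ne_top (Ideal.eq_top_of_isUnit_mem _ ha ?_)
    refine Pi.isUnit_iff.2 fun i => ?_
    have h2 : IsUnit (θ i (a i)) := isUnit_of_dvd_one (by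
      obtain ⟨c, hc⟩ := h1
      exact ⟨c i, congrFun hc i⟩)
    exact (hl i).map_nonunit _ h2
  exact PrimeSpectrum.comap_surjective_of_faithfullyFlat

theorem vcov_pi (θ : ∀ i, V i →+* V' i) (hθ : ∀ i, Function.Injective (θ i)) (hl : ∀ i, IsLocalHom (θ i)) :
    VCov (piMap θ) :=
  vcov_of_flat _ (flat_pi θ hθ) (comap_piMap_surjective θ hθ hl)

end Map

end K617.VC
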