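import Groth.Agent.EtDual.K617.TauDescCE
import Groth.Agent.EtDual.K148.Wide
import Groth.Agent.EtDual.K658.SharpTau

/-!
# Universal descent for `B ↦ A(W(B)/ξ)` (seat 617)

* `ce_sharp`: for a pushout square of perfect rings `T = B₁ ⊗_B B₂` the map from a pushout of
  `W(B₁)/ξ ← W(B)/ξ → W(B₂)/ξ` to `W(T)/ξ` is an isomorphism modulo all powers of `p`;
* `ud_sharp`: `D` a category with a functor `OD` to perfect rings, `F : D ⥤ C` with `O(F(X)) = W(OD(X))/ξ_X`;
  for a complex `A` on `C` with descent for `v`-coverings and invariant under completion, `F^* A` satisfies universal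
  descent for the `ξ₀`-coverings.
-/

set_option autoImplicit false
set_option backward.isDefEq.respectTransparency false
set_option backward.isDefEq.respectTransparency.types false
set_option linter.unusedSectionVars false

universe u v w u' v' u₁ v₁

open CategoryTheory CategoryTheory.Limits Opposite ComplexShape Ideal WittVector

namespace K617.SharpCE

open K148.Perf K148.Prim K148.Wide K617.TauDesc K617.VC K617.UDQuasi K781.Desc K781.Cech K933.UnivDesc

variable {p : ℕ} [hp : Fact p.Prime]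

section Bool

/-- The two-term family. -/
abbrev fam (A₁ A₂ : CommRingCat.{u}) : Bool → CommRingCat.{u} := fun b => Bool.rec A₂ A₁ b

/-- Pushouts as wide pushouts of two morphisms. -/
theorem isWP_of_isPushout {A A₁ A₂ D : CommRingCat.{u}} {f₁ : A ⟶ A₁} {f₂ : A ⟶ A₂} {g₁ : A₁ ⟶ D} {g₂ : A₂ ⟶ D}
    (h : IsPushout f₁ f₂ g₁ g₂) (f : ∀ b, A →+* fam A₁ A₂ b) (hf₁ : f true = f₁.hom) (hf₂ : f false = f₂.hom)
    (g : ∀ b, fam A₁ A₂ b →+* D) (hg₁ : g true = g₁.hom) (hg₂ : g false = g₂.hom) :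
    IsWP f g (g₁.hom.comp f₁.hom) where
  comm b := by
    cases b
    · rw [hf₂, hg₂]
      exact (congrArg CommRingCat.Hom.hom h.w).symm
    · rw [hf₁, hg₁]
  desc O _ a b hab := by
    have h1 : (b true).comp f₁.hom = a := by
      rw [← hf₁]
      exact hab true
    have h2 : (b false).comp f₂.hom = a := by
      rw [← hf₂]
      exact hab false
    have h3 : f₁ ≫ CommRingCat.ofHom (b true) = f₂ ≫ CommRingCat.ofHom (b false) :=
      CommRingCat.hom_ext (h1.trans h2.symm)
    have e1 : (h.desc (CommRingCat.ofHom (b true)) (CommRingCat.ofHom (b false)) h3).hom.comp g₁.hom = b true :=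
      congrArg CommRingCat.Hom.hom (h.inl_desc (CommRingCat.ofHom (b true)) (CommRingCat.ofHom (b false)) h3)
    have e2 : (h.desc (CommRingCat.ofHom (b true)) (CommRingCat.ofHom (b false)) h3).hom.comp g₂.hom = b false :=
      congrArg CommRingCat.Hom.hom (h.inr_desc (CommRingCat.ofHom (b true)) (CommRingCat.ofHom (b false)) h3)
    refine ⟨(h.desc (CommRingCat.ofHom (b true)) (CommRingCat.ofHom (b false)) h3).hom, ?_, fun i => ?_⟩
    · rw [← RingHom.comp_assoc, e1, h1]
    · cases i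
      · rw [hg₂, e2]
      · rw [hg₁, e1]
  uniq O _ d d' _ hd := by
    have h1 := hd true
    have h2 := hd false
    rw [hg₁] at h1
    rw [hg₂] at h2
    have h3 : CommRingCat.ofHom d = CommRingCat.ofHom d' :=
      h.hom_ext (CommRingCat.hom_ext h1) (CommRingCat.hom_ext h2)
    exact congrArg CommRingCat.Hom.hom h3

end Bool

theorem ce_of_isoMod {C D : Type u} [CommRing C] [CommRing D] {a : C} {φ : C →+* D} (h : IsoMod a φ) : CE a φ :=
  ⟨fun n y => (h n).2 y, fun n x => (h n).1 x⟩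

/-- **The comparison map of the tensor product.** -/
theorem ce_sharp {B B₁ B₂ T : CommRingCat.{u}} {f₁ : B ⟶ B₁} {f₂ : B ⟶ B₂} {g₁ : B₁ ⟶ T} {g₂ : B₂ ⟶ T}
    (h : IsPushout f₁ f₂ g₁ g₂) (hB : IsPerf p B) (hB₁ : IsPerf p B₁) (hB₂ : IsPerf p B₂) (hT : IsPerf p T)
    (ξ : WittVector p B) (ξ₁ : WittVector p B₁) (ξ₂ : WittVector p B₂) (ξT : WittVector p T)
    (hξT : ξT = WittVector.map (g₁.hom.comp f₁.hom) ξ)
    {s₁ : CommRingCat.of (WittVector p B ⧸ span {ξ}) ⟶ CommRingCat.of (WittVector p B₁ ⧸ span {ξ₁})}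
    {s₂ : CommRingCat.of (WittVector p B ⧸ span {ξ}) ⟶ CommRingCat.of (WittVector p B₂ ⧸ span {ξ₂})}
    (hs₁ : ∀ x, s₁.hom (Ideal.Quotient.mk _ x) = Ideal.Quotient.mk _ (WittVector.map f₁.hom x))
    (hs₂ : ∀ x, s₂.hom (Ideal.Quotient.mk _ x) = Ideal.Quotient.mk _ (WittVector.map f₂.hom x))
    {Q : CommRingCat.{u}} {i₁ : CommRingCat.of (WittVector p B₁ ⧸ span {ξ₁}) ⟶ Q}
    {i₂ : CommRingCat.of (WittVector p B₂ ⧸ span {ξ₂}) ⟶ Q} (hQ : IsPushout s₁ s₂ i₁ i₂)
    (k : Q →+* WittVector p T ⧸ span {ξT})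
    (hk₁ : ∀ x, k (i₁.hom (Ideal.Quotient.mk _ x)) = Ideal.Quotient.mk _ (WittVector.map g₁.hom x))
    (hk₂ : ∀ x, k (i₂.hom (Ideal.Quotient.mk _ x)) = Ideal.Quotient.mk _ (WittVector.map g₂.hom x)) :
    CE (p : Q) k := by
  let F : Bool → CommRingCat.{u} := fam B₁ B₂
  let f : ∀ b, B →+* F b := fun b => match b with
    | true => f₁.hom
    | false => f₂.hom
  let g : ∀ b, F b →+* T := fun b => match b with
    | true => g₁.hom
    | false => g₂.hom
  let ξ' : ∀ b, WittVector p (F b) := fun b => match b with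
    | true => ξ₁
    | false => ξ₂
  let s : ∀ b, WittVector p B ⧸ span {ξ} →+* WittVector p (F b) ⧸ span {ξ' b} := fun b => match b with
    | true => s₁.hom
    | false => s₂.hom
  let c : ∀ b, WittVector p (F b) ⧸ span {ξ' b} →+* Q := fun b => match b with
    | true => i₁.hom
    | false => i₂.hom
  have hF : ∀ b, IsPerf p (F b) := fun b => match b with
    | true => hB₁
    | false => hB₂
  have hw : IsWP f g (g₁.hom.comp f₁.hom) := isWP_of_isPushout h f rfl rfl g rfl rfl
  have hs : ∀ b x, s b (Ideal.Quotient.mk _ x) = Ideal.Quotient.mk _ (WittVector.map (f b) x) := fun b => match b with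
    | true => hs₁
    | false => hs₂
  have hC : IsWP s c (i₁.hom.comp s₁.hom) := by
    constructor
    · intro b
      cases b
      · exact (congrArg CommRingCat.Hom.hom hQ.w).symm
      · rfl
    · intro O _ a b hab
      have h1 : (b true).comp s₁.hom = a := hab true
      have h2 : (b false).comp s₂.hom = a := hab false
      have h3 : s₁ ≫ CommRingCat.ofHom (b true) = s₂ ≫ CommRingCat.ofHom (b false) :=
        CommRingCat.hom_ext (h1.trans h2.symm)
      have e1 : (hQ.desc (CommRingCat.ofHom (b true)) (CommRingCat.ofHom (b false)) h3).hom.comp i₁.hom = b true :=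
        congrArg CommRingCat.Hom.hom (hQ.inl_desc (CommRingCat.ofHom (b true)) (CommRingCat.ofHom (b false)) h3)
      have e2 : (hQ.desc (CommRingCat.ofHom (b true)) (CommRingCat.ofHom (b false)) h3).hom.comp i₂.hom = b false :=
        congrArg CommRingCat.Hom.hom (hQ.inr_desc (CommRingCat.ofHom (b true)) (CommRingCat.ofHom (b false)) h3)
      refine ⟨(hQ.desc (CommRingCat.ofHom (b true)) (CommRingCat.ofHom (b false)) h3).hom, ?_, fun i => ?_⟩
      · rw [← RingHom.comp_assoc, e1, h1]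
      · cases i
        · exact e2
        · exact e1
    · intro O _ d d' _ hd
      have h3 : CommRingCat.ofHom d = CommRingCat.ofHom d' :=
        hQ.hom_ext (CommRingCat.hom_ext (hd true)) (CommRingCat.hom_ext (hd false))
      exact congrArg CommRingCat.Hom.hom h3
  refine ce_of_isoMod (K148.Wide.main (f := f) (g := g) hB hF hT hw ξ ξ' ξT s hs hξT (c := c) hC k ?_ ?_)
  · intro x
    rw [RingHom.comp_apply, hs₁, hk₁]
    congr 1
  · intro b
    cases b
    · exact hk₂
    · exact hk₁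

/-- Transport of `TauCov` along isomorphisms. -/
theorem tauCov_of_equiv {R R' S S' : Type u} [CommRing R] [CommRing R'] [CommRing S] [CommRing S'] {w : S}
    {χ : S →+* S'} (h : TauCov w χ) (e : R ≃+* S) (e' : R' ≃+* S') (φ : R →+* R')
    (hφ : ∀ x, e' (φ x) = χ (e x)) : TauCov (e.symm w) φ := by
  refine h.of_weakPushout (e.symm : S →+* R) φ fun V _ a b hab => ⟨b.comp (e' : R' →+* S'), ?_⟩
  ext x
  change b (e' (φ x)) = a x
  rw [hφ]
  have h1 : b (χ (e x)) = a (e.symm (e x)) := congrArg (fun f : S →+* V => f (e x)) hab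
  rw [h1, RingEquiv.symm_apply_apply]

section Main

variable {C : Type u'} [Category.{v'} C] {O : Cᵒᵖ ⥤ CommRingCat.{u}} [HasPullbacks C]
  [∀ (n : ℕ) (f : Arrow C), HasWidePullback f.right (fun _ : Fin (n + 1) => f.left) fun _ => f.hom]
  {D : Type u₁} [Category.{v₁} D]

/-- **Universal descent for `B ↦ A(W(B)/ξ)` along the `ξ₀`-coverings.** -/
theorem ud_sharp (hO : AffLike O) {A : CochainComplex (Cᵒᵖ ⥤ AddCommGrpCat.{w}) ℤ} (hA : BB A)
    (hV : ∀ {X Y : C} (f : X ⟶ Y), VCov (rh O f) → UD A f)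
    (hU : ∀ {X Y : C} (f : X ⟶ Y), CE ((p : ℕ) : O.obj (op Y)) (rh O f) → QMap A f)
    (hE : HasProdCover.{u}) {OD : Dᵒᵖ ⥤ CommRingCat.{u}} (hperf : ∀ X : D, IsPerf p (OD.obj (op X)))
    (hpush : ∀ ⦃P X Y T : D⦄ (q₁ : P ⟶ X) (q₂ : P ⟶ Y) (f : X ⟶ T) (g : Y ⟶ T), IsPullback q₁ q₂ f g →
      IsPushout (OD.map f.op) (OD.map g.op) (OD.map q₁.op) (OD.map q₂.op))
    (ξ : ∀ X : D, WittVector p (OD.obj (op X)))
    (hξ : ∀ {X Y : D} (f : X ⟶ Y), WittVector.map (rh OD f) (ξ Y) = ξ X) (hdist : ∀ X, IsDist (ξ X))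
    (F : D ⥤ C) (e : ∀ X : D, O.obj (op (F.obj X)) ≃+* WittVector p (OD.obj (op X)) ⧸ span {ξ X})
    (he : ∀ {X Y : D} (f : X ⟶ Y) (x : WittVector p (OD.obj (op Y))) (y : O.obj (op (F.obj Y))),
      e Y y = Ideal.Quotient.mk _ x → e X (rh O (F.map f) y) = Ideal.Quotient.mk _ (WittVector.map (rh OD f) x))
    {X T : D} (f : X ⟶ T) (hf : TauCov ((ξ T).coeff 0) (rh OD f)) : UD (rs F.op A) f := by
  let ε : ∀ X : D, O.obj (op (F.obj X)) ≅ CommRingCat.of (WittVector p (OD.obj (op X)) ⧸ span {ξ X}) :=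
    fun X => (e X).toCommRingCatIso
  have hε : ∀ {X Y : D} (f : X ⟶ Y) (x : WittVector p (OD.obj (op Y))),
      ((ε Y).inv ≫ O.map (F.map f).op ≫ (ε X).hom).hom (Ideal.Quotient.mk _ x) =
        Ideal.Quotient.mk _ (WittVector.map (rh OD f) x) := by
    intro X Y f x
    refine he f x ((e Y).symm (Ideal.Quotient.mk _ x)) ?_
    exact (e Y).apply_symm_apply _
  refine ud_pullback hO hA (a := fun X => ((p : ℕ) : O.obj (op X))) (fun f => map_natCast _ p) hV hU hE F ?_ f ?_
  · intro P X Y T q₁ q₂ f g sq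
    have hsq : O.map (F.map f).op ≫ O.map (F.map q₁).op = O.map (F.map g).op ≫ O.map (F.map q₂).op := by
      rw [← O.map_comp, ← O.map_comp, ← op_comp, ← op_comp, ← F.map_comp, ← F.map_comp, sq.w]
    have hQ := IsPushout.of_hasPushout (O.map (F.map f).op) (O.map (F.map g).op)
    refine ⟨_, pushout.inl _ _, pushout.inr _ _, pushout.desc _ _ hsq, hQ, pushout.inl_desc _ _ _,
      pushout.inr_desc _ _ _, ?_⟩
    have hQ' : IsPushout ((ε T).inv ≫ O.map (F.map f).op ≫ (ε X).hom) ((ε T).inv ≫ O.map (F.map g).op ≫ (ε Y).hom)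
        ((ε X).inv ≫ pushout.inl (O.map (F.map f).op) (O.map (F.map g).op))
        ((ε Y).inv ≫ pushout.inr (O.map (F.map f).op) (O.map (F.map g).op)) := by
      refine IsPushout.of_iso hQ (ε T) (ε X) (ε Y) (Iso.refl _) ?_ ?_ ?_ ?_ <;> simp
    let k := pushout.desc (O.map (F.map q₁).op) (O.map (F.map q₂).op) hsq
    have hk : CE ((p : ℕ) : (pushout (O.map (F.map f).op) (O.map (F.map g).op) : CommRingCat.{u}))
        (k ≫ (ε P).hom).hom := by
      refine ce_sharp (hpush q₁ q₂ f g sq) (hperf T) (hperf X) (hperf Y) (hperf P) (ξ T) (ξ X) (ξ Y) (ξ P) ?_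
        (fun x => hε f x) (fun x => hε g x) hQ' _ (fun x => ?_) (fun x => ?_)
      · rw [← hξ (q₁ ≫ f), rh_comp]
      · have h1 : (ε X).inv ≫ pushout.inl (O.map (F.map f).op) (O.map (F.map g).op) ≫ k ≫ (ε P).hom =
            (ε X).inv ≫ O.map (F.map q₁).op ≫ (ε P).hom := by
          rw [pushout.inl_desc_assoc]
        exact (ConcreteCategory.congr_hom h1 _).trans (hε q₁ x)
      · have h1 : (ε Y).inv ≫ pushout.inr (O.map (F.map f).op) (O.map (F.map g).op) ≫ k ≫ (ε P).hom =
            (ε Y).inv ≫ O.map (F.map q₂).op ≫ (ε P).hom := by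
          rw [pushout.inr_desc_assoc]
        exact (ConcreteCategory.congr_hom h1 _).trans (hε q₂ x)
    have h2 := CE.comp hk (χ := (ε P).inv.hom) (CE.of_bijective (ConcreteCategory.bijective_of_isIso (ε P).inv))
    have h3 : (ε P).inv.hom.comp (k ≫ (ε P).hom).hom = k.hom :=
      congrArg CommRingCat.Hom.hom (show (k ≫ (ε P).hom) ≫ (ε P).inv = k by
        rw [Category.assoc, Iso.hom_inv_id, Category.comp_id])
    rw [h3] at h2
    have h4 : (pushout.inl (O.map (F.map f).op) (O.map (F.map g).op)).hom ((p : ℕ) : O.obj (op (F.obj X))) =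
        ((p : ℕ) : (pushout (O.map (F.map f).op) (O.map (F.map g).op) : CommRingCat.{u})) := map_natCast _ p
    rw [h4]
    exact h2
  · have h1 := K658.SharpTau.tauCov_sharp' (hperf T).cast (hperf T).bij (ξ T) (hdist T) (rh OD f) hf
    let E : WittVector p (OD.obj (op X)) ⧸ span {ξ X} ≃+*
        WittVector p (OD.obj (op X)) ⧸ span {WittVector.map (rh OD f) (ξ T)} :=
      Ideal.quotEquivOfEq (by rw [hξ f])
    have h2 := tauCov_of_equiv h1 (e T) ((e X).trans E) (rh O (F.map f)) (by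
      intro x
      obtain ⟨y, hy⟩ := Ideal.Quotient.mk_surjective (e T x)
      have h3 := he f y x hy.symm
      change E (e X (rh O (F.map f) x)) = _
      rw [h3, ← hy]
      rfl)
    rw [map_natCast] at h2
    exact h2

end Main

end K617.SharpCE
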