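import Groth.Agent.EtDual.K617.UDQuasi

/-!
# Transport of universal descent along a functor preserving pullbacks up to quasi-isomorphisms (seat 617)

`F : D ⥤ C`; `A` a bounded below complex of presheaves on `C`. If all comparison morphisms
`F(X ×_T Y) ⟶ F(X) ×_{F(T)} F(Y)` belong to `UQ A`, then `UD A (F(f))` implies `UD (F^* A) f` (`ud_transport`).
-/

set_option autoImplicit false
set_option backward.isDefEq.respectTransparency false
set_option backward.isDefEq.respectTransparency.types false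
set_option linter.unusedSectionVars false

universe u v w u' v' u₁ v₁

open CategoryTheory CategoryTheory.Limits Opposite ComplexShape

namespace K617.UDQuasi

open K781.Desc K781.Cech K933.UnivDesc

variable {C : Type u} [Category.{v} C] {A : CochainComplex (Cᵒᵖ ⥤ AddCommGrpCat.{w}) ℤ}

theorem QMap.comp {Z'' Z' Z : C} {g : Z'' ⟶ Z'} {h : Z' ⟶ Z} (hg : QMap A g) (hh : QMap A h) : QMap A (g ≫ h) := by
  unfold QMap at *
  have e : (NatTrans.mapHomologicalComplex ((evaluation Cᵒᵖ AddCommGrpCat.{w}).map (g ≫ h).op) (up ℤ)).app A =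
      (NatTrans.mapHomologicalComplex ((evaluation Cᵒᵖ AddCommGrpCat.{w}).map h.op) (up ℤ)).app A ≫
        (NatTrans.mapHomologicalComplex ((evaluation Cᵒᵖ AddCommGrpCat.{w}).map g.op) (up ℤ)).app A := by
    ext i x
    exact congrArg (fun t => t x) ((A.X i).map_comp h.op g.op)
  rw [e]
  infer_instance

theorem qMap_of_isIso {Z' Z : C} (g : Z' ⟶ Z) [IsIso g] : QMap A g := by
  unfold QMap
  have h1 : IsIso ((NatTrans.mapHomologicalComplex ((evaluation Cᵒᵖ AddCommGrpCat.{w}).map g.op) (up ℤ)).app A) := by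
    have : ∀ i, IsIso (((NatTrans.mapHomologicalComplex
        ((evaluation Cᵒᵖ AddCommGrpCat.{w}).map g.op) (up ℤ)).app A).f i) := fun i =>
      inferInstanceAs (IsIso ((A.X i).map g.op))
    exact HomologicalComplex.Hom.isIso_of_components _
  infer_instance

/-- Cancellation: if `g ≫ h` and `h` induce quasi-isomorphisms then so does `g`. -/
theorem QMap.of_comp_left {Z'' Z' Z : C} {g : Z'' ⟶ Z'} {h : Z' ⟶ Z} (hgh : QMap A (g ≫ h)) (hh : QMap A h) :
    QMap A g := by
  unfold QMap at *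
  have e : (NatTrans.mapHomologicalComplex ((evaluation Cᵒᵖ AddCommGrpCat.{w}).map (g ≫ h).op) (up ℤ)).app A =
      (NatTrans.mapHomologicalComplex ((evaluation Cᵒᵖ AddCommGrpCat.{w}).map h.op) (up ℤ)).app A ≫
        (NatTrans.mapHomologicalComplex ((evaluation Cᵒᵖ AddCommGrpCat.{w}).map g.op) (up ℤ)).app A := by
    ext i x
    exact congrArg (fun t => t x) ((A.X i).map_comp h.op g.op)
  rw [e] at hgh
  exact (quasiIso_iff_comp_left _ _).1 hgh

/-- Cancellation: if `g ≫ h` and `g` induce quasi-isomorphisms then so does `h`. -/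
theorem QMap.of_comp_right {Z'' Z' Z : C} {g : Z'' ⟶ Z'} {h : Z' ⟶ Z} (hgh : QMap A (g ≫ h)) (hg : QMap A g) :
    QMap A h := by
  unfold QMap at *
  have e : (NatTrans.mapHomologicalComplex ((evaluation Cᵒᵖ AddCommGrpCat.{w}).map (g ≫ h).op) (up ℤ)).app A =
      (NatTrans.mapHomologicalComplex ((evaluation Cᵒᵖ AddCommGrpCat.{w}).map h.op) (up ℤ)).app A ≫
        (NatTrans.mapHomologicalComplex ((evaluation Cᵒᵖ AddCommGrpCat.{w}).map g.op) (up ℤ)).app A := by
    ext i x
    exact congrArg (fun t => t x) ((A.X i).map_comp h.op g.op)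
  rw [e] at hgh
  exact (quasiIso_iff_comp_right _ _).1 hgh

/-- `UQ A` as a property of morphisms. -/
def uqP (A : CochainComplex (Cᵒᵖ ⥤ AddCommGrpCat.{w}) ℤ) : MorphismProperty C := fun _ _ s => UQ A s

instance : (uqP A).IsStableUnderBaseChange where
  of_isPullback sq h := UQ.of_sq sq h

theorem uq_of_isIso {Z' Z : C} (g : Z' ⟶ Z) [IsIso g] : UQ A g := by
  intro W' W s' a b sq
  have : IsIso s' := sq.isIso_snd_of_isIso
  exact qMap_of_isIso s'

section Cech

variable {τ : Dpᵒᵖ ⥤ C}

/-- The inductive description of a Cech object. -/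
lemma sq_succ (h : IsCech τ) (n : ℕ) :
    IsPullback (τ.map (WithInitial.incl.map (SimplexCategory.δ (Fin.last (n + 1)))).op)
      (τ.map (vtx (n + 1) (Fin.last (n + 1))).op) (τ.map (init (ob n)).op) (τ.map (init (ob 0)).op) := by
  have hδ : ∀ i : Fin (n + 1), τ.map (WithInitial.incl.map (SimplexCategory.δ (Fin.last (n + 1)))).op ≫
      τ.map (vtx n i).op = τ.map (vtx (n + 1) i.castSucc).op := by
    intro i
    rw [map_incl_vtx]
    congr 3
    exact Fin.succAbove_last_apply i
  refine ⟨⟨by rw [map_incl_init, map_vtx_init]⟩, ⟨PullbackCone.isLimitAux' _ fun s => ?_⟩⟩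
  have hex : ∃ b : s.pt ⟶ τ.obj (op (ob (n + 1))),
      b ≫ τ.map (WithInitial.incl.map (SimplexCategory.δ (Fin.last (n + 1)))).op = s.fst ∧
      b ≫ τ.map (vtx (n + 1) (Fin.last (n + 1))).op = s.snd := by
    obtain ⟨b, hb⟩ := h.exists_lift (n + 1) s.pt
      (Fin.lastCases s.snd fun j => s.fst ≫ τ.map (vtx n j).op) (by
        have key : ∀ i : Fin (n + 2), (Fin.lastCases s.snd (fun j => s.fst ≫ τ.map (vtx n j).op) i :
            s.pt ⟶ τ.obj (op (ob 0))) ≫ τ.map (init (ob 0)).op = s.snd ≫ τ.map (init (ob 0)).op := by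
          intro i
          refine Fin.lastCases ?_ (fun j => ?_) i
          · rw [Fin.lastCases_last]
          · rw [Fin.lastCases_castSucc, Category.assoc, map_vtx_init]
            exact s.condition
        intro i j
        rw [key, key])
    refine ⟨b, h.hom_ext _ _ _ _ fun i => ?_, ?_⟩
    · rw [Category.assoc, hδ, hb, Fin.lastCases_castSucc]
    · rw [hb, Fin.lastCases_last]
  refine ⟨hex.choose, hex.choose_spec.1, hex.choose_spec.2, ?_⟩
  intro m h1 h2
  apply h.hom_ext
  intro i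
  refine Fin.lastCases ?_ (fun j => ?_) i
  · exact h2.trans hex.choose_spec.2.symm
  · rw [← hδ, ← Category.assoc, ← Category.assoc]
    exact congrArg (· ≫ τ.map (vtx n j).op) (h1.trans hex.choose_spec.1.symm)

end Cech

section pb

variable [HasPullbacks C]

theorem UQ.comp {X Y Z : C} {f : X ⟶ Y} {g : Y ⟶ Z} (hf : UQ A f) (hg : UQ A g) : UQ A (f ≫ g) := by
  intro W' W s a b sq
  have h1 := IsPullback.of_hasPullback g b
  obtain ⟨c, hc1, hc2⟩ : ∃ c : W' ⟶ pullback g b, c ≫ pullback.fst g b = a ≫ f ∧ c ≫ pullback.snd g b = s :=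
    ⟨pullback.lift (a ≫ f) s (by rw [Category.assoc, sq.w]), pullback.lift_fst _ _ _, pullback.lift_snd _ _ _⟩
  subst hc2
  have h2 : IsPullback c a (pullback.fst g b) f := IsPullback.of_right sq.flip hc1 h1.flip
  exact QMap.comp (hf _ _ _ h2.flip) (hg _ _ _ h1)

instance : (uqP A).IsStableUnderComposition where
  comp_mem _ _ hf hg := UQ.comp hf hg

instance : (uqP A).IsMultiplicative where
  id_mem _ := uq_of_isIso _

variable [∀ (n : ℕ) (f : Arrow C), HasWidePullback f.right (fun _ : Fin (n + 1) => f.left) fun _ => f.hom]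

/-- A morphism inducing universally quasi-isomorphisms is of universal descent. -/
theorem UQ.ud (hA : BB A) {X Y : C} {s : X ⟶ Y} (hs : UQ A s) : UD A s :=
  ud_of_uq hA s s hs (ud_of_section hA _ (pullback.lift (𝟙 X) (𝟙 X) rfl) (pullback.lift_snd _ _ _))

variable {D : Type u₁} [Category.{v₁} D] (F : D ⥤ C)

/-- All comparison morphisms `F(X ×_T Y) ⟶ F(X) ×_{F(T)} F(Y)` induce universally quasi-isomorphisms. -/
def PresUQ (A : CochainComplex (Cᵒᵖ ⥤ AddCommGrpCat.{w}) ℤ) : Prop :=
  ∀ ⦃P X Y T : D⦄ (p : P ⟶ X) (q : P ⟶ Y) (f : X ⟶ T) (g : Y ⟶ T), IsPullback p q f g →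
    ∀ c : F.obj P ⟶ pullback (F.map f) (F.map g), c ≫ pullback.fst _ _ = F.map p → c ≫ pullback.snd _ _ = F.map q →
      UQ A c

variable {F}

/-- The comparison of the image of a Cech object with the Cech nerve of the image of the augmentation. -/
theorem uq_app (hF : PresUQ F A) {τ : Dpᵒᵖ ⥤ D} (hτ : IsCech τ) {N : Dpᵒᵖ ⥤ C} (hN : IsCech N) (φ : τ ⋙ F ⟶ N)
    (hs : IsIso (φ.app (op .star))) (h0 : UQ A (φ.app (op (ob 0)))) (n : ℕ) : UQ A (φ.app (op (ob n))) := by
  induction n with
  | zero => exact h0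
  | succ n ih =>
    let f₁ : F.obj (τ.obj (op (ob n))) ⟶ F.obj (τ.obj (op .star)) := F.map (τ.map (init (ob n)).op)
    let f₂ : F.obj (τ.obj (op (ob 0))) ⟶ F.obj (τ.obj (op .star)) := F.map (τ.map (init (ob 0)).op)
    let g₁ : N.obj (op (ob n)) ⟶ F.obj (τ.obj (op .star)) := N.map (init (ob n)).op ≫ inv (φ.app (op .star))
    let g₂ : N.obj (op (ob 0)) ⟶ F.obj (τ.obj (op .star)) := N.map (init (ob 0)).op ≫ inv (φ.app (op .star))
    have e₁ : f₁ = φ.app (op (ob n)) ≫ g₁ := by
      have := φ.naturality (init (ob n)).op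
      dsimp only [f₁, g₁]
      rw [← Category.assoc, ← this, Category.assoc, IsIso.hom_inv_id, Category.comp_id]
      rfl
    have e₂ : f₂ = φ.app (op (ob 0)) ≫ g₂ := by
      have := φ.naturality (init (ob 0)).op
      dsimp only [f₂, g₂]
      rw [← Category.assoc, ← this, Category.assoc, IsIso.hom_inv_id, Category.comp_id]
      rfl
    have sqτ := sq_succ hτ n
    have sqN := sq_succ hN n
    have sqN' : IsPullback (N.map (WithInitial.incl.map (SimplexCategory.δ (Fin.last (n + 1)))).op)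
        (N.map (vtx (n + 1) (Fin.last (n + 1))).op) g₁ g₂ := by
      refine IsPullback.of_iso sqN (Iso.refl _) (Iso.refl _) (Iso.refl _) (asIso (φ.app (op .star))).symm ?_ ?_ ?_ ?_
      · simp
      · simp
      · simp [g₁]
      · simp [g₂]
    obtain ⟨c, hc1, hc2⟩ : ∃ c : F.obj (τ.obj (op (ob (n + 1)))) ⟶ pullback f₁ f₂,
        c ≫ pullback.fst _ _ = F.map (τ.map (WithInitial.incl.map (SimplexCategory.δ (Fin.last (n + 1)))).op) ∧
        c ≫ pullback.snd _ _ = F.map (τ.map (vtx (n + 1) (Fin.last (n + 1))).op) :=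
      ⟨pullback.lift _ _ (by rw [← F.map_comp, ← F.map_comp, sqτ.w]), pullback.lift_fst _ _ _,
        pullback.lift_snd _ _ _⟩
    have hc : UQ A c := hF _ _ _ _ sqτ c hc1 hc2
    have hm : UQ A (pullback.map f₁ f₂ g₁ g₂ (φ.app (op (ob n))) (φ.app (op (ob 0))) (𝟙 _)
        ((Category.comp_id _).trans e₁) ((Category.comp_id _).trans e₂)) :=
      MorphismProperty.pullbackMap (P := uqP A) ih h0 e₁ e₂
    have hiso : UQ A sqN'.isoPullback.inv := uq_of_isIso _
    have e : φ.app (op (ob (n + 1))) = c ≫ pullback.map f₁ f₂ g₁ g₂ (φ.app (op (ob n))) (φ.app (op (ob 0))) (𝟙 _)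
        ((Category.comp_id _).trans e₁) ((Category.comp_id _).trans e₂) ≫ sqN'.isoPullback.inv := by
      apply sqN'.hom_ext
      · rw [Category.assoc, Category.assoc, IsPullback.isoPullback_inv_fst, pullback.lift_fst, reassoc_of% hc1]
        exact (φ.naturality (WithInitial.incl.map (SimplexCategory.δ (Fin.last (n + 1)))).op).symm
      · rw [Category.assoc, Category.assoc, IsPullback.isoPullback_inv_snd, pullback.lift_snd, reassoc_of% hc2]
        exact (φ.naturality (vtx (n + 1) (Fin.last (n + 1))).op).symm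
    rw [e]
    exact hc.comp (hm.comp hiso)

/-- **Transport.** -/
theorem ud_transport (hA : BB A) (hF : PresUQ F A) {X T : D} (f : X ⟶ T) (hf : UD A (F.map f)) :
    UD (rs F.op A) f := by
  intro τ hτ a b sq
  let ε := F.map (τ.map (init (ob 0)).op)
  -- descent for the image of the augmentation
  have hε : UD A ε := by
    obtain ⟨c, hc1, hc2⟩ : ∃ c : F.obj (τ.obj (op (ob 0))) ⟶ pullback (F.map f) (F.map b),
        c ≫ pullback.fst _ _ = F.map a ∧ c ≫ pullback.snd _ _ = ε :=
      ⟨pullback.lift _ _ (by rw [← F.map_comp, ← F.map_comp, sq.w]), pullback.lift_fst _ _ _,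
        pullback.lift_snd _ _ _⟩
    rw [← hc2]
    exact ud_comp hA _ _ (UQ.ud hA (hF _ _ _ _ sq c hc1 hc2)) (UD.of_sq (IsPullback.of_hasPullback _ _) hf)
  obtain ⟨φ, hφ0, hφs⟩ := exists_hom (τ := τ ⋙ F) (isCech_nerve ε) (nerveZero ε).inv (𝟙 _) (by
    rw [nerveZero_inv]
    exact Category.comp_id _)
  have hs : IsIso (φ.app (op .star)) := by
    rw [hφs]
    exact inferInstanceAs (IsIso (𝟙 (F.obj (τ.obj (op .star)))))
  have h0 : UQ A (φ.app (op (ob 0))) := by
    rw [hφ0]
    exact uq_of_isIso _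
  have hn := uq_app hF hτ (isCech_nerve ε) φ hs h0
  have h1 : IsDesc (rs (τ ⋙ F).rightOp A) := by
    refine (isDesc_iff_of_nat hA φ fun x => ?_).1 hε.desc
    rcases x with n | _
    · exact (hn n.len).qMap
    · exact qMap_of_isIso _
  exact h1

end pb

end K617.UDQuasi
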