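import Groth.Agent.EtDual.K617.TauDesc
import Groth.Agent.EtDual.K617.UDTransport

/-!
# Descent along `w`-coverings and completion equivalences (seat 617)

Continuation of `TauDesc` with the hypothesis `hU : CE (a Y) (O(Y) → O(X)) ⟹ QMap A f` (`CE`: isomorphism modulo all
powers of `a`).
* `uq_of_ce`: completion equivalences belong to `UQ A`;
* `ud_of_tauCov'`: universal descent along `w`-coverings;
* `presUQ_of_ce`: a functor whose comparison maps on rings are completion equivalences satisfies `PresUQ`;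
* `ud_pullback`: universal descent for `F^* A`;
* `affLike_under`: the category of algebras over a ring.
-/

set_option autoImplicit false
set_option backward.isDefEq.respectTransparency false
set_option backward.isDefEq.respectTransparency.types false
set_option linter.unusedSectionVars false

universe u v w u' v' u₁ v₁

open CategoryTheory CategoryTheory.Limits Opposite ComplexShape

namespace K617.TauDesc

open K781.Desc K781.Cech K933.UnivDesc K617.UDQuasi K617.VC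

variable {C : Type u'} [Category.{v'} C] {O : Cᵒᵖ ⥤ CommRingCat.{u}}

theorem uq_of_ce (hO : AffLike O) {A : CochainComplex (Cᵒᵖ ⥤ AddCommGrpCat.{w}) ℤ}
    {a : ∀ X : C, O.obj (op X)} (ha : ∀ {X Y : C} (f : X ⟶ Y), rh O f (a Y) = a X)
    (hU : ∀ {X Y : C} (f : X ⟶ Y), CE (a Y) (rh O f) → QMap A f) {X Y : C} (s : X ⟶ Y)
    (hs : CE (a Y) (rh O s)) : UQ A s := by
  intro Z' Z s' c b sq
  have h1 := CE.of_isPushout (hO.push c s' s b sq) hs
  have h2 : (O.map b.op).hom (a Y) = a Z := ha b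
  rw [h2] at h1
  exact hU s' h1

/-- The category of algebras over a ring. -/
abbrev undO (R₀ : CommRingCat.{u}) : ((Under R₀)ᵒᵖ)ᵒᵖ ⥤ CommRingCat.{u} :=
  unopUnop (Under R₀) ⋙ Under.forget R₀

theorem affLike_under (R₀ : CommRingCat.{u}) : AffLike (undO R₀) where
  push Z X Y W p q f g sq := by
    have h1 : IsPushout g.unop f.unop q.unop p.unop := sq.unop
    exact (h1.map (Under.forget R₀)).flip
  real X T t := ⟨op (Under.mk (X.unop.hom ≫ t)), (Under.homMk t rfl : X.unop ⟶ Under.mk (X.unop.hom ≫ t)).op,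
    Iso.refl _, Category.comp_id _⟩

variable [HasPullbacks C]
  [∀ (n : ℕ) (f : Arrow C), HasWidePullback f.right (fun _ : Fin (n + 1) => f.left) fun _ => f.hom]

/-- **Universal descent along `w`-coverings.** -/
theorem ud_of_tauCov' (hO : AffLike O) {A : CochainComplex (Cᵒᵖ ⥤ AddCommGrpCat.{w}) ℤ} (hA : BB A)
    {a : ∀ X : C, O.obj (op X)} (ha : ∀ {X Y : C} (f : X ⟶ Y), rh O f (a Y) = a X)
    (hV : ∀ {X Y : C} (f : X ⟶ Y), VCov (rh O f) → UD A f)
    (hU : ∀ {X Y : C} (f : X ⟶ Y), CE (a Y) (rh O f) → QMap A f)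
    (hE : HasProdCover.{u}) {X Y : C} (f : X ⟶ Y) (hf : TauCov (a Y) (rh O f)) : UD A f :=
  ud_of_tauCov hO hA ha hV (fun f h1 h2 => hU f (CE.of_surjective h1 h2)) hE f hf

variable {D : Type u₁} [Category.{v₁} D]

theorem presUQ_of_ce (hO : AffLike O) {A : CochainComplex (Cᵒᵖ ⥤ AddCommGrpCat.{w}) ℤ}
    {a : ∀ X : C, O.obj (op X)} (ha : ∀ {X Y : C} (f : X ⟶ Y), rh O f (a Y) = a X)
    (hU : ∀ {X Y : C} (f : X ⟶ Y), CE (a Y) (rh O f) → QMap A f) (F : D ⥤ C)
    (hF : ∀ ⦃P X Y T : D⦄ (p : P ⟶ X) (q : P ⟶ Y) (f : X ⟶ T) (g : Y ⟶ T), IsPullback p q f g →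
      ∃ (Q : CommRingCat.{u}) (i₁ : O.obj (op (F.obj X)) ⟶ Q) (i₂ : O.obj (op (F.obj Y)) ⟶ Q)
        (k : Q ⟶ O.obj (op (F.obj P))), IsPushout (O.map (F.map f).op) (O.map (F.map g).op) i₁ i₂ ∧
        i₁ ≫ k = O.map (F.map p).op ∧ i₂ ≫ k = O.map (F.map q).op ∧ CE (i₁.hom (a (F.obj X))) k.hom) :
    PresUQ F A := by
  intro P X Y T p q f g sq c hc1 hc2
  obtain ⟨Q, i₁, i₂, k, hQ, hk1, hk2, hk⟩ := hF p q f g sq
  refine uq_of_ce hO ha hU c ?_
  have hpush := hO.push _ _ _ _ (IsPullback.of_hasPullback (F.map f) (F.map g))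
  let e := hpush.isoIsPushout _ _ hQ
  have e1 : O.map (pullback.fst (F.map f) (F.map g)).op ≫ e.hom = i₁ := hpush.inl_isoIsPushout_hom _ _ hQ
  have e2 : O.map (pullback.snd (F.map f) (F.map g)).op ≫ e.hom = i₂ := hpush.inr_isoIsPushout_hom _ _ hQ
  have hck : O.map c.op = e.hom ≫ k := by
    apply hpush.hom_ext
    · rw [reassoc_of% e1, hk1, ← hc1, ← O.map_comp]
      rfl
    · rw [reassoc_of% e2, hk2, ← hc2, ← O.map_comp]
      rfl
  have h1 : rh O c = k.hom.comp e.hom.hom := congrArg CommRingCat.Hom.hom hck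
  rw [h1]
  refine CE.comp (CE.of_bijective (ConcreteCategory.bijective_of_isIso e.hom)) ?_
  have h2 : e.hom.hom (a (pullback (F.map f) (F.map g))) = i₁.hom (a (F.obj X)) := by
    rw [← ha (pullback.fst (F.map f) (F.map g)), ← e1]
    rfl
  rw [h2]
  exact hk

/-- **Universal descent for the pullback of a complex along a functor compatible with completed tensor products.** -/
theorem ud_pullback (hO : AffLike O) {A : CochainComplex (Cᵒᵖ ⥤ AddCommGrpCat.{w}) ℤ} (hA : BB A)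
    {a : ∀ X : C, O.obj (op X)} (ha : ∀ {X Y : C} (f : X ⟶ Y), rh O f (a Y) = a X)
    (hV : ∀ {X Y : C} (f : X ⟶ Y), VCov (rh O f) → UD A f)
    (hU : ∀ {X Y : C} (f : X ⟶ Y), CE (a Y) (rh O f) → QMap A f)
    (hE : HasProdCover.{u}) (F : D ⥤ C)
    (hF : ∀ ⦃P X Y T : D⦄ (p : P ⟶ X) (q : P ⟶ Y) (f : X ⟶ T) (g : Y ⟶ T), IsPullback p q f g →
      ∃ (Q : CommRingCat.{u}) (i₁ : O.obj (op (F.obj X)) ⟶ Q) (i₂ : O.obj (op (F.obj Y)) ⟶ Q)
        (k : Q ⟶ O.obj (op (F.obj P))), IsPushout (O.map (F.map f).op) (O.map (F.map g).op) i₁ i₂ ∧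
        i₁ ≫ k = O.map (F.map p).op ∧ i₂ ≫ k = O.map (F.map q).op ∧ CE (i₁.hom (a (F.obj X))) k.hom)
    {X T : D} (f : X ⟶ T) (hf : TauCov (a (F.obj T)) (rh O (F.map f))) : UD (rs F.op A) f :=
  ud_transport hA (presUQ_of_ce hO ha hU F hF) f (ud_of_tauCov' hO hA ha hV hU hE (F.map f) hf)

end K617.TauDesc
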