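import Groth.Agent.EtDual.K933.UnivDesc

/-!
# Universal descent and quasi-isomorphisms along base changes (seat 617)

`QMap A g`: `A(Z) ⟶ A(Z')` is a quasi-isomorphism (`g : Z' ⟶ Z`); `UQ A s`: all base changes of `s` have `QMap`.
* `ud_of_uq`: `s : T' ⟶ T` with `UQ A s` and `UD A (X ×_T T' ⟶ T')` imply `UD A (X ⟶ T)`;
* `ud_of_local_uq`: the same locally for `UD A`.
-/

set_option autoImplicit false
set_option backward.isDefEq.respectTransparency false
set_option backward.isDefEq.respectTransparency.types false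
set_option linter.unusedSectionVars false

universe u v w u' v'

open CategoryTheory CategoryTheory.Limits Opposite ComplexShape

namespace K617.UDQuasi

open K781.Desc K781.Cech K933.UnivDesc

variable {C : Type u} [Category.{v} C]

/-- `A(Z) ⟶ A(Z')` is a quasi-isomorphism. -/
def QMap (A : CochainComplex (Cᵒᵖ ⥤ AddCommGrpCat.{w}) ℤ) {Z' Z : C} (g : Z' ⟶ Z) : Prop :=
  QuasiIso ((NatTrans.mapHomologicalComplex ((evaluation Cᵒᵖ AddCommGrpCat.{w}).map g.op) (up ℤ)).app A)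

/-- All base changes of `s` induce quasi-isomorphisms. -/
def UQ (A : CochainComplex (Cᵒᵖ ⥤ AddCommGrpCat.{w}) ℤ) {T' T : C} (s : T' ⟶ T) : Prop :=
  ∀ ⦃Z' Z : C⦄ (s' : Z' ⟶ Z) (a : Z' ⟶ T') (b : Z ⟶ T), IsPullback a s' s b → QMap A s'

variable {A : CochainComplex (Cᵒᵖ ⥤ AddCommGrpCat.{w}) ℤ}

theorem UQ.of_sq {T' T Z' Z : C} {s : T' ⟶ T} {s' : Z' ⟶ Z} {a : Z' ⟶ T'} {b : Z ⟶ T}
    (sq : IsPullback a s' s b) (h : UQ A s) : UQ A s' := fun _ _ s'' a' b' sq' =>
  h s'' (a' ≫ a) (b' ≫ b) (sq'.paste_horiz sq)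

theorem UQ.qMap {T' T : C} {s : T' ⟶ T} (h : UQ A s) : QMap A s := h s (𝟙 _) (𝟙 _) (IsPullback.of_horiz_isIso ⟨by simp⟩)

section nat

variable {τ τ' : Dpᵒᵖ ⥤ C}

/-- The morphism of coaugmented cosimplicial complexes. -/
noncomputable def rsMap (A : CochainComplex (Cᵒᵖ ⥤ AddCommGrpCat.{w}) ℤ) (φ : τ' ⟶ τ) :
    rs τ.rightOp A ⟶ rs τ'.rightOp A :=
  (NatTrans.mapHomologicalComplex ((Functor.whiskeringLeft Dp Cᵒᵖ AddCommGrpCat.{w}).map
    (NatTrans.rightOp φ)) (up ℤ)).app A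

theorem isDesc_iff_of_nat (hA : BB A) (φ : τ' ⟶ τ) (h : ∀ x : Dp, QMap A (φ.app (op x))) :
    IsDesc (rs τ.rightOp A) ↔ IsDesc (rs τ'.rightOp A) :=
  isDesc_iff_of_quasi (bb_rs hA _) (bb_rs hA _) (rsMap A φ) fun x => h x

end nat

section over

variable [HasPullbacks C]
  [∀ (n : ℕ) (f : Arrow C), HasWidePullback f.right (fun _ : Fin (n + 1) => f.left) fun _ => f.hom]

/-- The base change of an augmented simplicial object along `s : P ⟶ τ.obj (op .star)`. -/
noncomputable abbrev bcD (τ : Dpᵒᵖ ⥤ C) {P : C} (s : P ⟶ τ.obj (op .star)) : Dpᵒᵖ ⥤ C :=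
  lift τ (𝟙 _) ⋙ Over.pullback s ⋙ Over.forget P

/-- The projection. -/
noncomputable def bcFst (τ : Dpᵒᵖ ⥤ C) {P : C} (s : P ⟶ τ.obj (op .star)) : bcD τ s ⟶ τ where
  app x := pullback.fst ((lift τ (𝟙 _)).obj x).hom s
  naturality x y f := by
    exact pullback.lift_fst _ _ _

lemma lift_hom (τ : Dpᵒᵖ ⥤ C) (x : Dp) :
    ((lift τ (𝟙 (τ.obj (op .star)))).obj (op x)).hom = τ.map (init x).op := by
  change τ.map (init x).op ≫ 𝟙 _ = _
  rw [Category.comp_id]

lemma bcFst_sq (τ : Dpᵒᵖ ⥤ C) {P : C} (s : P ⟶ τ.obj (op .star)) (x : Dp) :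
    IsPullback ((bcFst τ s).app (op x)) (pullback.snd ((lift τ (𝟙 _)).obj (op x)).hom s)
      (τ.map (init x).op) s := by
  have h := IsPullback.of_hasPullback ((lift τ (𝟙 (τ.obj (op .star)))).obj (op x)).hom s
  rw [← lift_hom τ x]
  exact h

lemma bcD_map_snd (τ : Dpᵒᵖ ⥤ C) {P : C} (s : P ⟶ τ.obj (op .star)) (x : Dp) :
    (bcD τ s).map (init x).op ≫ pullback.snd ((lift τ (𝟙 _)).obj (op .star)).hom s =
      pullback.snd ((lift τ (𝟙 _)).obj (op x)).hom s := by
  exact pullback.lift_snd _ _ _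

lemma isIso_snd_star (τ : Dpᵒᵖ ⥤ C) {P : C} (s : P ⟶ τ.obj (op .star)) :
    IsIso (pullback.snd ((lift τ (𝟙 _)).obj (op .star)).hom s) := by
  have h1 : ((lift τ (𝟙 (τ.obj (op .star)))).obj (op .star)).hom = 𝟙 _ := by
    rw [lift_hom]
    have : (init .star : WithInitial.star ⟶ .star) = 𝟙 _ := Subsingleton.elim _ _
    rw [this, op_id]
    exact τ.map_id _
  rw [h1]
  infer_instance

lemma bcFst_sq_init (τ : Dpᵒᵖ ⥤ C) {P : C} (s : P ⟶ τ.obj (op .star)) (x : Dp) :
    IsPullback ((bcFst τ s).app (op x)) ((bcD τ s).map (init x).op) (τ.map (init x).op)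
      ((bcFst τ s).app (op .star)) := by
  have h0 := isIso_snd_star τ s
  have hstar := bcFst_sq τ s .star
  have h1 : τ.map (init .star).op = 𝟙 _ := by
    have : (init .star : WithInitial.star ⟶ .star) = 𝟙 _ := Subsingleton.elim _ _
    rw [this, op_id]
    exact τ.map_id _
  have h2 : (bcFst τ s).app (op .star) = pullback.snd ((lift τ (𝟙 _)).obj (op .star)).hom s ≫ s := by
    rw [← hstar.w, h1, Category.comp_id]
  refine IsPullback.of_iso (bcFst_sq τ s x) (Iso.refl _) (Iso.refl _)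
    (asIso (pullback.snd ((lift τ (𝟙 _)).obj (op .star)).hom s)).symm (Iso.refl _) ?_ ?_ ?_ ?_
  · simp
  · rw [Iso.refl_hom, Category.id_comp, Iso.symm_hom, asIso_inv]
    exact (IsIso.comp_inv_eq _).2 (bcD_map_snd τ s x).symm
  · simp
  · rw [Iso.refl_hom, Category.comp_id, Iso.symm_hom, asIso_inv, h2, IsIso.inv_hom_id_assoc]

lemma isCech_bcD {τ : Dpᵒᵖ ⥤ C} (h : IsCech τ) {P : C} (s : P ⟶ τ.obj (op .star)) : IsCech (bcD τ s) :=
  h.baseChange (bcFst τ s) (bcFst_sq_init τ s)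

/-- **Universal descent may be tested after a base change inducing universally quasi-isomorphisms.** -/
theorem ud_of_uq (hA : BB A) {X T T' : C} (f : X ⟶ T) (s : T' ⟶ T) (hs : UQ A s)
    (hf : UD A (pullback.snd f s)) : UD A f := by
  intro τ hτ a b sq
  let s₁ := pullback.snd s b
  have hs₁ : UQ A s₁ := UQ.of_sq (IsPullback.of_hasPullback s b) hs
  refine (isDesc_iff_of_nat hA (bcFst τ s₁) fun x => ?_).2 ?_
  · exact hs₁ _ _ _ (bcFst_sq τ s₁ x).flip
  · have h1 := (bcFst_sq_init τ s₁ (ob 0)).paste_horiz sq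
    have h2 : (bcFst τ s₁).app (op .star) ≫ b =
        (pullback.snd ((lift τ (𝟙 _)).obj (op .star)).hom s₁ ≫ pullback.fst s b) ≫ s := by
      have h3 : τ.map (init .star).op = 𝟙 _ := by
        have : (init .star : WithInitial.star ⟶ .star) = 𝟙 _ := Subsingleton.elim _ _
        rw [this, op_id]
        exact τ.map_id _
      have h4 := (bcFst_sq τ s₁ .star).w
      rw [h3, Category.comp_id] at h4
      rw [h4, Category.assoc, Category.assoc, pullback.condition]
    rw [h2] at h1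
    exact hf _ (isCech_bcD hτ s₁) _ _ (IsPullback.of_right' h1 (IsPullback.of_hasPullback f s))

/-- The local version. -/
theorem ud_of_local_uq (hA : BB A) {X T T₁ T₂ : C} (f : X ⟶ T) (h : T₁ ⟶ T) (hh : UD A h) (s : T₂ ⟶ T₁)
    (hs : UQ A s) (hf : UD A (pullback.snd f (s ≫ h))) : UD A f := by
  refine ud_of_baseChange hA f h hh (ud_of_uq hA _ s hs ?_)
  have h1 := (IsPullback.of_hasPullback (pullback.snd f h) s).paste_horiz (IsPullback.of_hasPullback f h)
  have h2 : IsPullback (pullback.fst (pullback.snd f h) s ≫ pullback.fst f h) (pullback.snd (pullback.snd f h) s) f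
      (𝟙 T₂ ≫ s ≫ h) := by
    rw [Category.id_comp]
    exact h1
  exact UD.of_sq (IsPullback.of_right' h2 (IsPullback.of_hasPullback f (s ≫ h))) hf

end over

end K617.UDQuasi
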